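import Cfsg.Agent.Lib.Grp.Fi22.OC0
import Cfsg.Agent.Lib.Grp.Fi22.Main

set_option autoImplicit false
set_option maxRecDepth 100000
set_option Elab.async false

namespace Cfsg.Agent.CG.Fi22

theorem chainC : ChainOK act cc [] :=
  chainOK_of_chk act cc [] (by simp) (okc_of_okcb Oc176) Oc177
  (allL_cons Oc171 (allL_cons Oc172 (allL_cons Oc173 (allL_cons Oc174 (allL_cons Oc175 (allL_nil _))))))

theorem cardP : Nat.card (cl act.gen pS) = 11 ^ 1 :=
  card_cl_singleton base (by norm_num) (by decide +kernel) (by decide +kernel)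

theorem centP : ∀ g ∈ Subgroup.centralizer (cl act.gen pS : Set PG), ∃ φ ∈ pF, g = ev act.gen φ :=
  centralizer_subset (l := mc0) (L := [mc1, mc2, mc3, mc4, mc5, mc6]) chain card_le base (Q := pQ) (Rf := pR) (by decide +kernel) (by decide +kernel) (by decide +kernel)
    (show trChk (appT tabs t78 0xffff) mc0 [mc1, mc2, mc3, mc4, mc5, mc6] bs (diagQ pQ) (diagQ pR) pF 0 3510 = true from (trChk_append Oc178 Oc179))

theorem autT (φ : MulAut PG) : ∃ g : PG, φ (act.gen 14) = g * act.gen 14 * g⁻¹ :=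
  aut_class base (r := 11) (by norm_num) cardP (not_dvd_of_eq card (by decide +kernel)) centP
    Oc180 φ

theorem autA (φ : MulAut PG) : ∃ g : PG, ∃ a' ∈ aK, g * φ (act.gen 12) * g⁻¹ = act.gen a' :=
  aut_pow base (p := 13) (by norm_num) (not_dvd_of_eq card (by decide +kernel))
    Oc181 φ

theorem enumOK : en.OK app tst 0 3510 0 1035686095982119265284945 :=
  (Enum.OK.append (Enum.ok_of_chk Oc182)
  (Enum.ok_of_chk Oc183))

theorem cent_le : prodN cc ≤ Nat.card (Subgroup.centralizer {act.gen 14}) :=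
  le_card_centralizer base chainC Oc184

theorem classAll (g : PG) : ∃ f, act.Rep (g * act.gen 14 * g⁻¹) f ∧ tst f = true :=
  Enum.OK.all (A := act) (E := en) enumOK hinv (okc_of_okcb (n := 3510) (w := 16) (by decide +kernel)) cent_le
    (card ▸ (ble_iff _ _).1 (by decide +kernel)) g

theorem autPair (φ : MulAut PG) : ∃ s ∈ [(12, 14), (75, 77)], ∃ g : PG, φ (act.gen 12) = g * act.gen s.1 * g⁻¹ ∧ φ (act.gen 14) = g * act.gen s.2 * g⁻¹ :=
  aut_pair base Oc185 (okc_of_okcb (n := 3510) (w := 16) (by decide +kernel)) autA autT classAll φ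

theorem sigma : ∃ σ : MulAut PG, σ (act.gen 12) = act.gen 75 ∧ σ (act.gen 14) = act.gen 77 :=
  exists_aut' base bounds rels clS card.ge (img := img)
    (allL_cons Oc186 (allL_cons Oc187 (allL_cons Oc188 (allL_cons Oc189 (allL_cons Oc190 (allL_cons Oc191 (allL_cons Oc192 (allL_cons Oc193 (allL_cons Oc194 (allL_cons Oc195 (allL_cons Oc196 (allL_cons Oc197 (allL_cons Oc198 (allL_cons Oc199 (allL_cons Oc200 (allL_cons Oc201 (allL_cons Oc202 (allL_cons Oc203 (allL_cons Oc204 (allL_cons Oc205 (allL_cons Oc206 (allL_cons Oc207 (allL_cons Oc208 (allL_cons Oc209 (allL_cons Oc210 (allL_cons Oc211 (allL_cons Oc212 (allL_cons Oc213 (allL_cons Oc214 (allL_cons Oc215 (allL_cons Oc216 (allL_cons Oc217 (allL_cons Oc218 (allL_cons Oc219 (allL_cons Oc220 (allL_cons Oc221 (allL_cons Oc222 (allL_cons Oc223 (allL_cons Oc224 (allL_cons Oc225 (allL_cons Oc226 (allL_cons Oc227 (allL_cons Oc228 (allL_cons Oc229 (allL_cons Oc230 (allL_cons Oc231 (allL_cons Oc232 (allL_cons Oc233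 (allL_cons Oc234 (allL_cons Oc235 (allL_cons Oc236 (allL_cons Oc237 (allL_cons Oc238 (allL_cons Oc239 (allL_cons Oc240 (allL_cons Oc241 (allL_cons Oc242 (allL_cons Oc243 (allL_cons Oc244 (allL_nil _))))))))))))))))))))))))))))))))))))))))))))))))))))))))))))
    clAT (va := [55,53,54,51,50,51,50,49,55,52,53,51,50,53,49,54,52,50,53,52,53,50,53,51,50,51,52,50,51,49,50,51,52,50,51,49]) (vt := [53,55,53,51,50,53,49,55,52,53,50,51,50,49,50,53,50,52,50,51,50,52,49,50,52,51,50,51,49,50,49]) (wa := [53,52,53,54,53,51,55,54,49,50,53,49,54,51,50,52,49,50,52,53,50,51,50,52,49,50,51,52,50,52,49,50]) (wt := [52,51,55,52,50,53,54,49,55,50,52,53,52,54,50,53,54,50,51,50,52,53,52,50,51,52,50,51,50,49,50,52,50,51,49,50,49]) (by decide +kernel) (by decide +kernel)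

theorem card_out : Nat.card (Out PG) = 2 := by
  obtain ⟨σ, h1, h2⟩ := sigma
  exact card_out_eq_two clAT σ h1 h2 (not_conj_pair (l := mc0) (L := [mc1, mc2, mc3, mc4, mc5, mc6]) chain card_le base (Q := nQ) (Rf := [[0], [1]]) (by decide +kernel)
    (show trChk (appT tabs t78 0xffff) mc0 [mc1, mc2, mc3, mc4, mc5, mc6] bs (pairQ 12 14 75 77 nQ) (pairQ 12 14 75 77 [[0], [1]]) [] 0 3510 = true from (trChk_append (trChk_append Oc245 Oc246) Oc247))) autPair

end Cfsg.Agent.CG.Fi22
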