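import Cfsg.Agent.Lib.Grp.Fi22.Defs

set_option autoImplicit false
set_option maxRecDepth 100000
set_option Elab.async false

namespace Cfsg.Agent.CG.Fi22

theorem c0 : allRange (chkBase 3510 16 (appT tabs t78 0xffff) 0 (inv 0)) 0 3510 = true := by decide +kernel
theorem c1 : allRange (chkBase 3510 16 (appT tabs t78 0xffff) 1 (inv 1)) 0 3510 = true := by decide +kernel
theorem c2 : allRange (chkBase 3510 16 (appT tabs t78 0xffff) 2 (inv 2)) 0 3510 = true := by decide +kernel
theorem c3 : allRange (chkBase 3510 16 (appT tabs t78 0xffff) 3 (inv 3)) 0 3510 = true := by decide +kernel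
theorem c4 : allRange (chkBase 3510 16 (appT tabs t78 0xffff) 4 (inv 4)) 0 3510 = true := by decide +kernel
theorem c5 : allRange (chkBase 3510 16 (appT tabs t78 0xffff) 5 (inv 5)) 0 3510 = true := by decide +kernel
theorem c6 : allRange (chkBase 3510 16 (appT tabs t78 0xffff) 6 (inv 6)) 0 3510 = true := by decide +kernel
theorem c7 : allRange (chkBase 3510 16 (appT tabs t78 0xffff) 7 (inv 7)) 0 3510 = true := by decide +kernel
theorem c8 : allRange (chkBase 3510 16 (appT tabs t78 0xffff) 8 (inv 8)) 0 3510 = true := by decide +kernel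
theorem c9 : chkDef 16 (appT tabs t78 0xffff) 9 (slp 9) 0 3510 = true := by decide +kernel
theorem c10 : chkDef 16 (appT tabs t78 0xffff) 10 (slp 10) 0 3510 = true := by decide +kernel
theorem c11 : chkDef 16 (appT tabs t78 0xffff) 11 (slp 11) 0 3510 = true := by decide +kernel
theorem c12 : chkDef 16 (appT tabs t78 0xffff) 12 (slp 12) 0 3510 = true := by decide +kernel
theorem c13 : chkDef 16 (appT tabs t78 0xffff) 13 (slp 13) 0 3510 = true := by decide +kernel
theorem c14 : chkDef 16 (appT tabs t78 0xffff) 14 (slp 14) 0 3510 = true := by decide +kernel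
theorem c15 : chkDef 16 (appT tabs t78 0xffff) 15 (slp 15) 0 3510 = true := by decide +kernel
theorem c16 : chkDef 16 (appT tabs t78 0xffff) 16 (slp 16) 0 3510 = true := by decide +kernel
theorem c17 : chkDef 16 (appT tabs t78 0xffff) 17 (slp 17) 0 3510 = true := by decide +kernel
theorem c18 : chkDef 16 (appT tabs t78 0xffff) 18 (slp 18) 0 3510 = true := by decide +kernel
theorem c19 : chkDef 16 (appT tabs t78 0xffff) 19 (slp 19) 0 3510 = true := by decide +kernel
theorem c20 : chkDef 16 (appT tabs t78 0xffff) 20 (slp 20) 0 3510 = true := by decide +kernel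
theorem c21 : chkDef 16 (appT tabs t78 0xffff) 21 (slp 21) 0 3510 = true := by decide +kernel
theorem c22 : chkDef 16 (appT tabs t78 0xffff) 22 (slp 22) 0 3510 = true := by decide +kernel
theorem c23 : chkDef 16 (appT tabs t78 0xffff) 23 (slp 23) 0 3510 = true := by decide +kernel
theorem c24 : chkDef 16 (appT tabs t78 0xffff) 24 (slp 24) 0 3510 = true := by decide +kernel
theorem c25 : chkDef 16 (appT tabs t78 0xffff) 25 (slp 25) 0 3510 = true := by decide +kernel
theorem c26 : chkDef 16 (appT tabs t78 0xffff) 26 (slp 26) 0 3510 = true := by decide +kernel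
theorem c27 : chkDef 16 (appT tabs t78 0xffff) 27 (slp 27) 0 3510 = true := by decide +kernel
theorem c28 : chkDef 16 (appT tabs t78 0xffff) 28 (slp 28) 0 3510 = true := by decide +kernel
theorem c29 : chkDef 16 (appT tabs t78 0xffff) 29 (slp 29) 0 3510 = true := by decide +kernel
theorem c30 : chkDef 16 (appT tabs t78 0xffff) 30 (slp 30) 0 3510 = true := by decide +kernel
theorem c31 : chkDef 16 (appT tabs t78 0xffff) 31 (slp 31) 0 3510 = true := by decide +kernel
theorem c32 : chkDef 16 (appT tabs t78 0xffff) 32 (slp 32) 0 3510 = true := by decide +kernel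
theorem c33 : chkDef 16 (appT tabs t78 0xffff) 33 (slp 33) 0 3510 = true := by decide +kernel
theorem c34 : chkDef 16 (appT tabs t78 0xffff) 34 (slp 34) 0 3510 = true := by decide +kernel
theorem c35 : chkDef 16 (appT tabs t78 0xffff) 35 (slp 35) 0 3510 = true := by decide +kernel
theorem c36 : chkDef 16 (appT tabs t78 0xffff) 36 (slp 36) 0 3510 = true := by decide +kernel
theorem c37 : chkDef 16 (appT tabs t78 0xffff) 37 (slp 37) 0 3510 = true := by decide +kernel
theorem c38 : chkDef 16 (appT tabs t78 0xffff) 38 (slp 38) 0 3510 = true := by decide +kernel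
theorem c39 : chkDef 16 (appT tabs t78 0xffff) 39 (slp 39) 0 3510 = true := by decide +kernel
theorem c40 : chkDef 16 (appT tabs t78 0xffff) 40 (slp 40) 0 3510 = true := by decide +kernel
theorem c41 : chkDef 16 (appT tabs t78 0xffff) 41 (slp 41) 0 3510 = true := by decide +kernel
theorem c42 : chkDef 16 (appT tabs t78 0xffff) 42 (slp 42) 0 3510 = true := by decide +kernel
theorem c43 : chkDef 16 (appT tabs t78 0xffff) 43 (slp 43) 0 3510 = true := by decide +kernel
theorem c44 : chkDef 16 (appT tabs t78 0xffff) 44 (slp 44) 0 3510 = true := by decide +kernel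
theorem c45 : chkDef 16 (appT tabs t78 0xffff) 45 (slp 45) 0 3510 = true := by decide +kernel
theorem c46 : chkDef 16 (appT tabs t78 0xffff) 46 (slp 46) 0 3510 = true := by decide +kernel
theorem c47 : chkDef 16 (appT tabs t78 0xffff) 47 (slp 47) 0 3510 = true := by decide +kernel
theorem c48 : chkDef 16 (appT tabs t78 0xffff) 48 (slp 48) 0 3510 = true := by decide +kernel
theorem c49 : chkDef 16 (appT tabs t78 0xffff) 49 (slp 49) 0 3510 = true := by decide +kernel
theorem c50 : chkDef 16 (appT tabs t78 0xffff) 50 (slp 50) 0 3510 = true := by decide +kernel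
theorem c51 : chkDef 16 (appT tabs t78 0xffff) 51 (slp 51) 0 3510 = true := by decide +kernel
theorem c52 : chkDef 16 (appT tabs t78 0xffff) 52 (slp 52) 0 3510 = true := by decide +kernel
theorem c53 : chkDef 16 (appT tabs t78 0xffff) 53 (slp 53) 0 3510 = true := by decide +kernel
theorem c54 : chkDef 16 (appT tabs t78 0xffff) 54 (slp 54) 0 3510 = true := by decide +kernel
theorem c55 : chkDef 16 (appT tabs t78 0xffff) 55 (slp 55) 0 3510 = true := by decide +kernel
theorem c56 : chkDef 16 (appT tabs t78 0xffff) 56 (slp 56) 0 3510 = true := by decide +kernel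
theorem c57 : chkDef 16 (appT tabs t78 0xffff) 57 (slp 57) 0 3510 = true := by decide +kernel
theorem c58 : chkDef 16 (appT tabs t78 0xffff) 58 (slp 58) 0 3510 = true := by decide +kernel
theorem c59 : chkDef 16 (appT tabs t78 0xffff) 59 (slp 59) 0 3510 = true := by decide +kernel
theorem c60 : chkDef 16 (appT tabs t78 0xffff) 60 (slp 60) 0 3510 = true := by decide +kernel
theorem c61 : chkDef 16 (appT tabs t78 0xffff) 61 (slp 61) 0 3510 = true := by decide +kernel
theorem c62 : chkDef 16 (appT tabs t78 0xffff) 62 (slp 62) 0 3510 = true := by decide +kernel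
theorem c63 : chkDef 16 (appT tabs t78 0xffff) 63 (slp 63) 0 3510 = true := by decide +kernel
theorem c64 : chkDef 16 (appT tabs t78 0xffff) 64 (slp 64) 0 3510 = true := by decide +kernel
theorem c65 : chkDef 16 (appT tabs t78 0xffff) 65 (slp 65) 0 3510 = true := by decide +kernel
theorem c66 : chkDef 16 (appT tabs t78 0xffff) 66 (slp 66) 0 3510 = true := by decide +kernel
theorem c67 : chkDef 16 (appT tabs t78 0xffff) 67 (slp 67) 0 3510 = true := by decide +kernel
theorem c68 : chkDef 16 (appT tabs t78 0xffff) 68 (slp 68) 0 3510 = true := by decide +kernel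
theorem c69 : chkDef 16 (appT tabs t78 0xffff) 69 (slp 69) 0 3510 = true := by decide +kernel
theorem c70 : chkDef 16 (appT tabs t78 0xffff) 70 (slp 70) 0 3510 = true := by decide +kernel
theorem c71 : chkDef 16 (appT tabs t78 0xffff) 71 (slp 71) 0 3510 = true := by decide +kernel
theorem c72 : chkDef 16 (appT tabs t78 0xffff) 72 (slp 72) 0 3510 = true := by decide +kernel
theorem c73 : chkDef 16 (appT tabs t78 0xffff) 73 (slp 73) 0 3510 = true := by decide +kernel
theorem c74 : chkDef 16 (appT tabs t78 0xffff) 74 (slp 74) 0 3510 = true := by decide +kernel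
theorem c75 : chkDef 16 (appT tabs t78 0xffff) 75 (slp 75) 0 3510 = true := by decide +kernel
theorem c76 : chkDef 16 (appT tabs t78 0xffff) 76 (slp 76) 0 3510 = true := by decide +kernel
theorem c77 : chkDef 16 (appT tabs t78 0xffff) 77 (slp 77) 0 3510 = true := by decide +kernel
theorem c78 : chkDef 16 (appT tabs t78 0xffff) 78 (false, []) 0 3510 = true := by decide +kernel
theorem c79 : mc0.chk (appT tabs t78 0xffff) 1 3509 = true := by decide +kernel
theorem c80 : mc1.chk (appT tabs t78 0xffff) 1 692 = true := by decide +kernel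
theorem c81 : mc2.chk (appT tabs t78 0xffff) 1 511 = true := by decide +kernel
theorem c82 : mc3.chk (appT tabs t78 0xffff) 1 431 = true := by decide +kernel
theorem c83 : mc4.chk (appT tabs t78 0xffff) 1 9 = true := by decide +kernel
theorem c84 : mc5.chk (appT tabs t78 0xffff) 1 5 = true := by decide +kernel
theorem c85 : mc6.chk (appT tabs t78 0xffff) 1 1 = true := by decide +kernel
theorem c86 : okcb 3510 16 (bases mc) = true := by decide +kernel
theorem c87 : headAll (appT tabs t78 0xffff) mc [] = true := by decide +kernel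
theorem c88 : tc0.head tcR = true := by decide +kernel
theorem c89 : allL (fun a => tc0.chk a 0 tc0.N) tc0.S = true := by decide +kernel
theorem c90 : tc1.head tcR = true := by decide +kernel
theorem c91 : allL (fun a => tc1.chk a 0 tc1.N) tc1.S = true := by decide +kernel
theorem c92 : tc2.head tcR = true := by decide +kernel
theorem c93 : allL (fun a => tc2.chk a 0 tc2.N) tc2.S = true := by decide +kernel
theorem c94 : tc3.head tcR = true := by decide +kernel
theorem c95 : allL (fun a => tc3.chk a 0 tc3.N) tc3.S = true := by decide +kernel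
theorem c96 : tc4.head tcR = true := by decide +kernel
theorem c97 : allL (fun a => tc4.chk a 0 tc4.N) tc4.S = true := by decide +kernel
theorem c98 : tc5.head tcR = true := by decide +kernel
theorem c99 : allL (fun a => tc5.chk a 0 tc5.N) tc5.S = true := by decide +kernel
theorem c100 : tc6.head tcR = true := by decide +kernel
theorem c101 : allL (fun a => tc6.chk a 0 tc6.N) tc6.S = true := by decide +kernel
theorem c102 : tcLink tc [] [49,50,51,52,53,54,55] = true := by decide +kernel
theorem c103 : oneAll 16 (appT tabs t78 0xffff) [49,49] 0 3510 = true := by decide +kernel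
theorem c104 : oneAll 16 (appT tabs t78 0xffff) [50,50] 0 3510 = true := by decide +kernel
theorem c105 : oneAll 16 (appT tabs t78 0xffff) [50,49,50,49,50,49,50,49,50,49,50,49] 0 3510 = true := by decide +kernel
theorem c106 : oneAll 16 (appT tabs t78 0xffff) [51,51] 0 3510 = true := by decide +kernel
theorem c107 : oneAll 16 (appT tabs t78 0xffff) [51,49,51,49] 0 3510 = true := by decide +kernel
theorem c108 : oneAll 16 (appT tabs t78 0xffff) [51,50,51,50,51,50,51,50] 0 3510 = true := by decide +kernel
theorem c109 : oneAll 16 (appT tabs t78 0xffff) [51,50,49,50,51,50,49,50,51,50,49,50] 0 3510 = true := by decide +kernel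
theorem c110 : oneAll 16 (appT tabs t78 0xffff) [50,49,51,50,49,51,50,51,49,50,51,49,50,51,49] 0 3510 = true := by decide +kernel
theorem c111 : oneAll 16 (appT tabs t78 0xffff) [52,52] 0 3510 = true := by decide +kernel
theorem c112 : oneAll 16 (appT tabs t78 0xffff) [52,49,52,49] 0 3510 = true := by decide +kernel
theorem c113 : oneAll 16 (appT tabs t78 0xffff) [52,50,52,50,52,50,52,50] 0 3510 = true := by decide +kernel
theorem c114 : oneAll 16 (appT tabs t78 0xffff) [52,51,52,51,52,51,52,51,52,51,52,51] 0 3510 = true := by decide +kernel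
theorem c115 : oneAll 16 (appT tabs t78 0xffff) [52,51,52,51,52,50,52,51,52,51,52,51,50,51] 0 3510 = true := by decide +kernel
theorem c116 : oneAll 16 (appT tabs t78 0xffff) [52,51,50,51,52,51,50,52,51,52,49,50,49,50,49,51] 0 3510 = true := by decide +kernel
theorem c117 : oneAll 16 (appT tabs t78 0xffff) [52,50,49,50,52,50,49,50,51,52,51,52,51,50,49,50] 0 3510 = true := by decide +kernel
theorem c118 : oneAll 16 (appT tabs t78 0xffff) [52,50,49,52,50,52,51,50,52,50,51,50,52,50,51,50,49,50,52,50,49,50] 0 3510 = true := by decide +kernel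
theorem c119 : oneAll 16 (appT tabs t78 0xffff) [52,50,49,52,50,51,50,51,52,50,49,50,51,52,50,52,49,50,49,51,50,49,51] 0 3510 = true := by decide +kernel
theorem c120 : oneAll 16 (appT tabs t78 0xffff) [53,53] 0 3510 = true := by decide +kernel
theorem c121 : oneAll 16 (appT tabs t78 0xffff) [53,49,53,49] 0 3510 = true := by decide +kernel
theorem c122 : oneAll 16 (appT tabs t78 0xffff) [53,51,53,51] 0 3510 = true := by decide +kernel
theorem c123 : oneAll 16 (appT tabs t78 0xffff) [53,50,51,50,53,50,51,50] 0 3510 = true := by decide +kernel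
theorem c124 : oneAll 16 (appT tabs t78 0xffff) [53,50,53,50,53,50,53,50] 0 3510 = true := by decide +kernel
theorem c125 : oneAll 16 (appT tabs t78 0xffff) [53,52,53,52,53,52,53,52] 0 3510 = true := by decide +kernel
theorem c126 : oneAll 16 (appT tabs t78 0xffff) [53,52,51,52,51,52,53,52,51,52,51,52] 0 3510 = true := by decide +kernel
theorem c127 : oneAll 16 (appT tabs t78 0xffff) [53,52,53,50,52,50,53,52,53,50,52,50] 0 3510 = true := by decide +kernel
theorem c128 : oneAll 16 (appT tabs t78 0xffff) [53,50,52,53,52,53,50,53,50,51,52,53,52,51,50] 0 3510 = true := by decide +kernel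
theorem c129 : oneAll 16 (appT tabs t78 0xffff) [53,52,50,49,50,49,50,52,53,52,50,49,50,49,50,52] 0 3510 = true := by decide +kernel
theorem c130 : oneAll 16 (appT tabs t78 0xffff) [53,50,49,53,50,49,50,53,49,50,53,49,50,49,50,49] 0 3510 = true := by decide +kernel
theorem c131 : oneAll 16 (appT tabs t78 0xffff) [53,50,52,50,53,50,49,50,53,50,52,50,53,50,49,50] 0 3510 = true := by decide +kernel
theorem c132 : oneAll 16 (appT tabs t78 0xffff) [53,50,49,52,50,51,50,52,49,50,53,50,49,52,50,51,50,49,52,50] 0 3510 = true := by decide +kernel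
theorem c133 : oneAll 16 (appT tabs t78 0xffff) [53,50,49,52,51,53,50,52,53,50,52,53,50,53,52,50,49,51,52,51,50] 0 3510 = true := by decide +kernel
theorem c134 : oneAll 16 (appT tabs t78 0xffff) [53,52,53,50,53,52,49,50,52,53,52,49,50,53,50,49,50,49,52,50,52] 0 3510 = true := by decide +kernel
theorem c135 : oneAll 16 (appT tabs t78 0xffff) [54,54] 0 3510 = true := by decide +kernel
theorem c136 : oneAll 16 (appT tabs t78 0xffff) [54,50,54,50] 0 3510 = true := by decide +kernel
theorem c137 : oneAll 16 (appT tabs t78 0xffff) [54,51,54,51] 0 3510 = true := by decide +kernel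
theorem c138 : oneAll 16 (appT tabs t78 0xffff) [54,49,54,49,54,49] 0 3510 = true := by decide +kernel
theorem c139 : oneAll 16 (appT tabs t78 0xffff) [54,52,50,52,54,52,50,52] 0 3510 = true := by decide +kernel
theorem c140 : oneAll 16 (appT tabs t78 0xffff) [54,52,51,52,54,52,51,52] 0 3510 = true := by decide +kernel
theorem c141 : oneAll 16 (appT tabs t78 0xffff) [54,53,54,53,54,53,54,53] 0 3510 = true := by decide +kernel
theorem c142 : oneAll 16 (appT tabs t78 0xffff) [51,52,51,54,52,54,51,52,54] 0 3510 = true := by decide +kernel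
theorem c143 : oneAll 16 (appT tabs t78 0xffff) [54,53,52,53,54,51,52,54,53,54,53,52,51] 0 3510 = true := by decide +kernel
theorem c144 : oneAll 16 (appT tabs t78 0xffff) [54,53,54,52,54,52,53,52,54,51,53,52,51,53,52] 0 3510 = true := by decide +kernel
theorem c145 : oneAll 16 (appT tabs t78 0xffff) [54,49,53,52,50,52,53,49,54,49,53,52,50,49,52,53] 0 3510 = true := by decide +kernel
theorem c146 : oneAll 16 (appT tabs t78 0xffff) [54,49,53,52,54,53,50,53,54,52,53,49,54,50,49,51,50,51,52,51,50,49,51,50] 0 3510 = true := by decide +kernel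
theorem c147 : oneAll 16 (appT tabs t78 0xffff) [54,49,50,53,54,49,51,50,51,52,53,54,49,51,50,49,51,50,52,51,50,49,51,52,53,50,52,50,51] 0 3510 = true := by decide +kernel
theorem c148 : oneAll 16 (appT tabs t78 0xffff) [55,55] 0 3510 = true := by decide +kernel
theorem c149 : oneAll 16 (appT tabs t78 0xffff) [55,50,55,50] 0 3510 = true := by decide +kernel
theorem c150 : oneAll 16 (appT tabs t78 0xffff) [55,52,55,52] 0 3510 = true := by decide +kernel
theorem c151 : oneAll 16 (appT tabs t78 0xffff) [55,54,55,54] 0 3510 = true := by decide +kernel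
theorem c152 : oneAll 16 (appT tabs t78 0xffff) [55,49,55,49,55,49] 0 3510 = true := by decide +kernel
theorem c153 : oneAll 16 (appT tabs t78 0xffff) [55,51,55,51,55,51] 0 3510 = true := by decide +kernel
theorem c154 : oneAll 16 (appT tabs t78 0xffff) [55,49,50,49,50,49,55,49,50,49,50,49] 0 3510 = true := by decide +kernel
theorem c155 : oneAll 16 (appT tabs t78 0xffff) [55,53,50,49,50,53,55,53,50,49,50,53] 0 3510 = true := by decide +kernel
theorem c156 : oneAll 16 (appT tabs t78 0xffff) [55,53,54,53,55,53,54,53,55,53,54,53] 0 3510 = true := by decide +kernel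
theorem c157 : oneAll 16 (appT tabs t78 0xffff) [55,51,52,50,49,50,52,51,55,51,52,50,49,50,52,51] 0 3510 = true := by decide +kernel
theorem c158 : oneAll 16 (appT tabs t78 0xffff) [53,52,50,55,53,50,52,51,52,50,53,55,50,52,53,55] 0 3510 = true := by decide +kernel
theorem c159 : oneAll 16 (appT tabs t78 0xffff) [55,53,52,50,53,49,52,50,53,51,55,51,53,50,49,52,53,50,52,53] 0 3510 = true := by decide +kernel
theorem c160 : oneAll 16 (appT tabs t78 0xffff) [55,53,50,53,55,53,55,53,50,53,55,50,49,51,50,49,51,52,51,50,51,53,52,51,50,49,51,52] 0 3510 = true := by decide +kernel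
theorem c161 : oneAll 16 (appT tabs t78 0xffff) [55,51,50,51,55,53,55,51,50,51,55,50,49,50,49,51,50,49,50,49,52,50,51,50,49,51,50,49,53] 0 3510 = true := by decide +kernel
theorem c162 : eqAll 16 (appT tabs t78 0xffff) [0] (nth inW [] 0) 0 3510 = true := by decide +kernel
theorem c163 : eqAll 16 (appT tabs t78 0xffff) [1] (nth inW [] 1) 0 3510 = true := by decide +kernel
theorem c164 : eqAll 16 (appT tabs t78 0xffff) [2] (nth inW [] 2) 0 3510 = true := by decide +kernel
theorem c165 : eqAll 16 (appT tabs t78 0xffff) [3] (nth inW [] 3) 0 3510 = true := by decide +kernel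
theorem c166 : eqAll 16 (appT tabs t78 0xffff) [4] (nth inW [] 4) 0 3510 = true := by decide +kernel
theorem c167 : eqAll 16 (appT tabs t78 0xffff) [5] (nth inW [] 5) 0 3510 = true := by decide +kernel
theorem c168 : eqAll 16 (appT tabs t78 0xffff) [6] (nth inW [] 6) 0 3510 = true := by decide +kernel
theorem c169 : eqAll 16 (appT tabs t78 0xffff) [7] (nth inW [] 7) 0 3510 = true := by decide +kernel
theorem c170 : eqAll 16 (appT tabs t78 0xffff) [8] (nth inW [] 8) 0 3510 = true := by decide +kernel

end Cfsg.Agent.CG.Fi22
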