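import Cfsg.Agent.Lib.Grp.Fi22.D0

set_option autoImplicit false
set_option maxRecDepth 100000
set_option Elab.async false

namespace Cfsg.Agent.CG.Fi22

noncomputable def tabs : List ℕ := [t0,t1,t2,t3,t4,t5,t6,t7,t8,t9,t10,t11,t12,t13,t14,t15,t16,t17,t18,t19,t20,t21,t22,t23,t24,t25,t26,t27,t28,t29,t30,t31,t32,t33,t34,t35,t36,t37,t38,t39,t40,t41,t42,t43,t44,t45,t46,t47,t48,t49,t50,t51,t52,t53,t54,t55,t56,t57,t58,t59,t60,t61,t62,t63,t64,t65,t66,t67,t68,t69,t70,t71,t72,t73,t74,t75,t76,t77]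
noncomputable abbrev app : ℕ → ℕ → ℕ := appT tabs t78 0xffff
noncomputable def slpL : List (Bool × List ℕ) := [(false,[]),
  (false,[]),
  (false,[]),
  (false,[]),
  (false,[]),
  (false,[]),
  (false,[]),
  (false,[]),
  (false,[]),
  (false,[2,0,4,7,3,5,8,1]),
  (true,[9]),
  (false,[0]),
  (false,[9]),
  (true,[12]),
  (false,[4,7,6,11,8,7,9,1,9,7,2,7,3,10,11,9,3,7,2,7,10,1,10,7,8,11,6,7,4]),
  (false,[12,14,12,14,13,13,14]),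
  (true,[15]),
  (false,[14,15,15,13,14,15,13]),
  (true,[17]),
  (false,[16,12,16,14,15,17,12]),
  (true,[19]),
  (false,[16,13,19,16,14,16,14]),
  (true,[21]),
  (false,[16,16,22,16,13,14,20,21,14,12,16]),
  (false,[12,12,17,12,16,18,18,22,20,14,18,15]),
  (true,[24]),
  (false,[22,14,18,22,17,16,14,16,13,14,21]),
  (false,[12,18,12,20,20,20,16,21,14,17,13]),
  (false,[24,24,23,25,23,15,18,18,14,22,22,20,16,12,20,13]),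
  (true,[28]),
  (false,[27,25,23,25,27,23,12,15,13,22,19,17,14,22,22,20,15,21]),
  (true,[30]),
  (false,[25,26,25,27,23,26,22,17,17,14,22,16,14,19,22,17,14,18]),
  (true,[32]),
  (false,[33,29,33,29,31,27,25,25,25,12,12,15,22,13,14,21,15,21,20,15,20]),
  (true,[34]),
  (false,[32,31,33,23,25,25,25,23,24,13,13,22,14,20,16,13,21,14,13,15]),
  (true,[36]),
  (false,[28,33,28,31,25,23,25,23,13,13,21,21,12,18,14,16,21,14,12,21]),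
  (true,[38]),
  (false,[36,39,36,32,28,30,28,23,27,25,27,22,14,18,16,14,17,19,12,15,18,19,14]),
  (true,[40]),
  (false,[38,37,38,35,29,33,28,31,28,25,23,24,13,17,12,21,20,16,14,12,17,14,16,14]),
  (true,[42]),
  (false,[36,34,38,34,30,30,33,31,23,26,24,23,24,18,18,14,13,20,12,22,12,16,20,14,13]),
  (true,[44]),
  (false,[40,43,35,38,37,37,29,32,28,30,25,25,25,26,25,23,16,16,18,19,19,14,20,17,19,15,14]),
  (true,[46]),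
  (false,[47,42,36,35,38,28,28,33,31,32,23,25,23,26,15,14,21,14,19,16,22,14,20]),
  (false,[48]),
  (false,[47,48]),
  (false,[43,47,48]),
  (false,[38,36,35,37,43,46,48]),
  (false,[32,28,30,29,39,36,39,36,34,43,46,48]),
  (false,[24,23,25]),
  (false,[18,22,18,13,16,24,27,24,32,28,28,33,38,38,34,39,44,40,47]),
  (false,[12,17,16,22,12,23,26,24,24,24,24,29,34,39,36,40,46,46,48]),
  (true,[56]),
  (false,[22,17,22,22,12,24,26,23,32,31,32,29,31,38,38,34,34,42,40,47]),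
  (false,[14,12,18,21,13,25,26,25,27,23,31,32,32,30,28,34,36,38,43,47,47]),
  (true,[59]),
  (false,[12,22,17,13,17,24,27,25,25,30,32,30,33,34,37,37,41,46]),
  (true,[61]),
  (false,[26,24,23,27,33,30,28,39,34,36,44,40,47,47]),
  (true,[63]),
  (false,[25,25,26,24,23,27,31,33,29,32,35,36,39,35,46]),
  (true,[65]),
  (false,[31,31,32,38,36,35,40,46,46,46]),
  (true,[67]),
  (false,[31,29,32,30,28,34,34,38,34,46,48]),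
  (true,[69]),
  (false,[39,35,38,38,41,45,46,46]),
  (true,[71]),
  (false,[34,39,44,40,46,48]),
  (false,[47,47,48]),
  (false,[12,12]),
  (true,[75]),
  (false,[22,17,14,13,26,23,24,23,30,29,29,36,35,37,38,41,48])]
noncomputable def slp (a : ℕ) : Bool × List ℕ := nth slpL (false, []) a
noncomputable def invL : List ℕ := [0,1,2,3,4,5,6,7,8,10,9,11,13,12,14,16,15,18,17,20,19,22,21,23,25,24,26,27,29,28,31,30,33,32,35,34,37,36,39,38,41,40,43,42,45,44,47,46,48,49,50,51,52,53,54,55,57,56,58,60,59,62,61,64,63,66,65,68,67,70,69,72,71,73,74,76,75,77]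
noncomputable def inv (a : ℕ) : ℕ := nth invL 78 a
noncomputable def bs : List ℕ := [4976,40208,26400,14576,13824,34320,24208]
noncomputable def mc0 : Lvl := ⟨4976, [12,13,14,15,16,17,18,21,22], 3510,
  fun i => look 0xffff mc0c (Nat.mul 16 i), fun i => look 0xfff mc0p (Nat.mul 12 i),
  fun i => look 255 mc0l (Nat.mul 8 i), fun i => look 255 mc0i (Nat.mul 8 i), fun x => look 0xffff mc0q x, 6⟩
noncomputable def mc1 : Lvl := ⟨40208, [23,24,25,26,27], 693,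
  fun i => look 0xffff mc1c (Nat.mul 16 i), fun i => look 0xfff mc1p (Nat.mul 12 i),
  fun i => look 255 mc1l (Nat.mul 8 i), fun i => look 255 mc1i (Nat.mul 8 i), fun x => look 0xffff mc1q x, 8⟩
noncomputable def mc2 : Lvl := ⟨26400, [28,29,30,31,32,33], 512,
  fun i => look 0xffff mc2c (Nat.mul 16 i), fun i => look 0xfff mc2p (Nat.mul 12 i),
  fun i => look 255 mc2l (Nat.mul 8 i), fun i => look 255 mc2i (Nat.mul 8 i), fun x => look 0xffff mc2q x, 6⟩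
noncomputable def mc3 : Lvl := ⟨14576, [34,35,36,37,38,39], 432,
  fun i => look 0xffff mc3c (Nat.mul 16 i), fun i => look 0xfff mc3p (Nat.mul 12 i),
  fun i => look 255 mc3l (Nat.mul 8 i), fun i => look 255 mc3i (Nat.mul 8 i), fun x => look 0xffff mc3q x, 5⟩
noncomputable def mc4 : Lvl := ⟨13824, [40,41,42,43,44,45], 10,
  fun i => look 0xffff mc4c (Nat.mul 16 i), fun i => look 0xf mc4p (Nat.mul 4 i),
  fun i => look 255 mc4l (Nat.mul 8 i), fun i => look 255 mc4i (Nat.mul 8 i), fun x => look 0xffff mc4q x, 2⟩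
noncomputable def mc5 : Lvl := ⟨34320, [46,47], 6,
  fun i => look 0xffff mc5c (Nat.mul 16 i), fun i => look 0xf mc5p (Nat.mul 4 i),
  fun i => look 255 mc5l (Nat.mul 8 i), fun i => look 255 mc5i (Nat.mul 8 i), fun x => look 0xffff mc5q x, 3⟩
noncomputable def mc6 : Lvl := ⟨24208, [48], 2,
  fun i => look 0xffff mc6c (Nat.mul 16 i), fun i => look 0xf mc6p (Nat.mul 4 i),
  fun i => look 255 mc6l (Nat.mul 8 i), fun i => look 255 mc6i (Nat.mul 8 i), fun x => look 0xffff mc6q x, 1⟩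
noncomputable def mc : List Lvl := [mc0, mc1, mc2, mc3, mc4, mc5, mc6]
noncomputable def tcR : List (List ℕ) := [[49,49],
  [50,50],
  [50,49,50,49,50,49,50,49,50,49,50,49],
  [51,51],
  [51,49,51,49],
  [51,50,51,50,51,50,51,50],
  [51,50,49,50,51,50,49,50,51,50,49,50],
  [50,49,51,50,49,51,50,51,49,50,51,49,50,51,49],
  [52,52],
  [52,49,52,49],
  [52,50,52,50,52,50,52,50],
  [52,51,52,51,52,51,52,51,52,51,52,51],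
  [52,51,52,51,52,50,52,51,52,51,52,51,50,51],
  [52,51,50,51,52,51,50,52,51,52,49,50,49,50,49,51],
  [52,50,49,50,52,50,49,50,51,52,51,52,51,50,49,50],
  [52,50,49,52,50,52,51,50,52,50,51,50,52,50,51,50,49,50,52,50,49,50],
  [52,50,49,52,50,51,50,51,52,50,49,50,51,52,50,52,49,50,49,51,50,49,51],
  [53,53],
  [53,49,53,49],
  [53,51,53,51],
  [53,50,51,50,53,50,51,50],
  [53,50,53,50,53,50,53,50],
  [53,52,53,52,53,52,53,52],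
  [53,52,51,52,51,52,53,52,51,52,51,52],
  [53,52,53,50,52,50,53,52,53,50,52,50],
  [53,50,52,53,52,53,50,53,50,51,52,53,52,51,50],
  [53,52,50,49,50,49,50,52,53,52,50,49,50,49,50,52],
  [53,50,49,53,50,49,50,53,49,50,53,49,50,49,50,49],
  [53,50,52,50,53,50,49,50,53,50,52,50,53,50,49,50],
  [53,50,49,52,50,51,50,52,49,50,53,50,49,52,50,51,50,49,52,50],
  [53,50,49,52,51,53,50,52,53,50,52,53,50,53,52,50,49,51,52,51,50],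
  [53,52,53,50,53,52,49,50,52,53,52,49,50,53,50,49,50,49,52,50,52],
  [54,54],
  [54,50,54,50],
  [54,51,54,51],
  [54,49,54,49,54,49],
  [54,52,50,52,54,52,50,52],
  [54,52,51,52,54,52,51,52],
  [54,53,54,53,54,53,54,53],
  [51,52,51,54,52,54,51,52,54],
  [54,53,52,53,54,51,52,54,53,54,53,52,51],
  [54,53,54,52,54,52,53,52,54,51,53,52,51,53,52],
  [54,49,53,52,50,52,53,49,54,49,53,52,50,49,52,53],
  [54,49,53,52,54,53,50,53,54,52,53,49,54,50,49,51,50,51,52,51,50,49,51,50],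
  [54,49,50,53,54,49,51,50,51,52,53,54,49,51,50,49,51,50,52,51,50,49,51,52,53,50,52,50,51],
  [55,55],
  [55,50,55,50],
  [55,52,55,52],
  [55,54,55,54],
  [55,49,55,49,55,49],
  [55,51,55,51,55,51],
  [55,49,50,49,50,49,55,49,50,49,50,49],
  [55,53,50,49,50,53,55,53,50,49,50,53],
  [55,53,54,53,55,53,54,53,55,53,54,53],
  [55,51,52,50,49,50,52,51,55,51,52,50,49,50,52,51],
  [53,52,50,55,53,50,52,51,52,50,53,55,50,52,53,55],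
  [55,53,52,50,53,49,52,50,53,51,55,51,53,50,49,52,53,50,52,53],
  [55,53,50,53,55,53,55,53,50,53,55,50,49,51,50,49,51,52,51,50,51,53,52,51,50,49,51,52],
  [55,51,50,51,55,53,55,51,50,51,55,50,49,50,49,51,50,49,50,49,52,50,51,50,49,51,50,49,53]]
noncomputable def tc0T : List ℕ := [0,0,0,0,0,0,0,0,0,0,0,0,0,0,0,0,0,0,0,0,0,0,0,0,0,0,0,0,0,0,0,0,0,0,0,0,0,0,0,0,0,0,0,0,0,0,0,0,0,tc0t49,tc0t50,tc0t51,tc0t52,tc0t53,tc0t54,tc0t55]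
noncomputable def tc0r : Tr Rule := (.node (.node (.node (.node (.node (.node (.node (.node (.node (.leaf ⟨55,[55],45,1⟩) (.leaf ⟨53,[50,53,50,53,50,53,50],21,0⟩)) (.node (.leaf ⟨49,[50,51,52,51,52,51,50,49,50,52,50,49,50,52,50],14,6⟩) (.leaf ⟨49,[52,51,53,50,52,53,50,52,53,50,53,52,50,49,51,52,51,50,53,50],30,2⟩))) (.node (.node (.leaf ⟨51,[54,52,54,51,52,54,51,52],39,2⟩) (.leaf ⟨53,[52,50,49,51,52,51,50,53,50,49,52,51,53,50,52,53,50,52,53,50],30,13⟩)) (.leaf ⟨52,[53,50,53,52,50,49,51,52,51,50,53,50,49,52,51,53,50,52,53,50],30,10⟩))) (.node (.node (.node (.leaf ⟨52,[54,52,51,52,54,52,51],37,7⟩) (.leaf ⟨53,[52,53,50,53,50,51,52,53,52,51,50,53,50,52],25,3⟩)) (.leaf ⟨54,[55,54,55],48,1⟩)) (.node (.node (.leaf ⟨52,[51,52,51,52,51,52,51,52,51,52,51],11,2⟩) (.leaf ⟨49,[50,49,50,49,50,49,50,49,50,49,50],2,9⟩)) (.leaf ⟨50,[49,50,53,55,53,50,49,50,53,55,53],52,2⟩))))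 (.node (.node (.node (.node (.leaf ⟨54,[50,54,50],33,2⟩) (.leaf ⟨53,[50,53,50,53,50,53,50],21,6⟩)) (.node (.leaf ⟨52,[50,52,50,52,50,52,50],10,6⟩) (.leaf ⟨53,[54,53,55,53,54,53,55,53,54,53,55],53,9⟩))) (.node (.node (.leaf ⟨52,[54,52,51,52,54,52,51],37,3⟩) (.leaf ⟨52,[50,52,54,52,50,52,54],36,1⟩)) (.leaf ⟨51,[55,51,55,51,55],50,5⟩))) (.node (.node (.node (.leaf ⟨52,[53,50,52,50,53,52,53,50,52,50,53],24,7⟩) (.leaf ⟨50,[49,52,50,51,50,52,49,50,53,50,49,52,50,51,50,49,52,50,53],29,1⟩)) (.leaf ⟨50,[49,55,49,50,49,50,49,55,49,50,49],51,4⟩)) (.node (.node (.leaf ⟨49,[50,51,49,50,51,49,50,49,51,50,49,51,50,51],7,8⟩) (.leaf ⟨50,[55,53,50,52,51,52,50,53,55,50,52,53,55,53,52],55,2⟩)) (.leaf ⟨52,[51,52,49,50,49,50,49,51,52,51,50,51,52,51,50],13,7⟩))))) (.node (.node (.node (.node (.node (.leaf ⟨49,[53,49,53],18,3⟩) (.leaf ⟨50,[52,53,55,53,52,50,53,49,52,50,53,51,55,51,53,50,49,52,53],56,17⟩))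 (.node (.leaf ⟨50,[49,50,53,49,50,53,49,50,49,50,49,53,50,49,53],27,4⟩) (.leaf ⟨55,[53,55,51,50,51,55,50,49,50,49,51,50,49,50,49,52,50,51,50,49,51,50,49,53,55,51,50,51],58,4⟩))) (.node (.node (.leaf ⟨52,[51,52,51,50,51,52,51,52,51,52,50,52,51],12,8⟩) (.leaf ⟨50,[52,54,52,50,52,54,52],36,2⟩)) (.leaf ⟨55,[51,53,50,49,52,53,50,52,53,55,53,52,50,53,49,52,50,53,51],56,10⟩))) (.node (.node (.node (.leaf ⟨50,[51,50,51,50,51,50,51],5,7⟩) (.leaf ⟨53,[52,54,51,53,52,51,53,52,54,53,54,52,54,52],41,6⟩)) (.leaf ⟨52,[50,51,50,49,50,52,50,49,50,52,50,49,52,50,52,51,50,52,50,51,50],15,12⟩)) (.node (.node (.leaf ⟨51,[55,51,55,51,55],50,3⟩) (.leaf ⟨49,[50,49,51,50,49,51,50,51,49,50,51,49,50,51],7,14⟩)) (.leaf ⟨53,[52,53,50,52,50,53,52,53,50,52,50],24,0⟩)))) (.node (.node (.node (.node (.leaf ⟨50,[52,50,52,50,52,50,52],10,5⟩) (.leaf ⟨49,[55,49,55,49,55],49,5⟩))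 (.leaf ⟨51,[52,53,52,51,52,51,52,53,52,51,52],23,4⟩)) (.node (.node (.leaf ⟨49,[54,49,53,52,50,49,52,53,54,49,53,52,50,52,53],42,7⟩) (.leaf ⟨53,[52,51,52,51,52,53,52,51,52,51,52],23,6⟩)) (.leaf ⟨49,[50,51,49,50,49,51,50,49,51,50,51,49,50,51],7,11⟩))) (.node (.node (.node (.leaf ⟨49,[54,49,54,49,54],35,3⟩) (.leaf ⟨50,[51,50,49,50,51,50,49,50,51,50,49],6,3⟩)) (.leaf ⟨50,[49,50,49,55,49,50,49,50,49,55,49],51,2⟩)) (.node (.node (.leaf ⟨52,[50,52,51,52,51,52,51,50,51,52,51,52,51],12,4⟩) (.leaf ⟨52,[51,50,49,51,52,53,50,52,50,51,54,49,50,53,54,49,51,50,51,52,53,54,49,51,50,49,51,50],44,18⟩)) (.leaf ⟨53,[52,53,52,53,52,53,52],22,4⟩)))))) (.node (.node (.node (.node (.node (.node (.leaf ⟨50,[50],1,1⟩) (.leaf ⟨53,[50,49,50,53,55,53,50,49,50,53,55],52,1⟩)) (.node (.leaf ⟨54,[53,55,53,54,53,55,53,54,53,55,53],53,6⟩) (.leaf ⟨55,[53,50,53,55,50,49,51,50,49,51,52,51,50,51,53,52,51,50,49,51,52,55,53,50,53,55,53],57,6⟩)))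 (.node (.node (.leaf ⟨54,[52,51,52,54,52,51,52],37,0⟩) (.leaf ⟨54,[49,50,53,54,49,51,50,51,52,53,54,49,51,50,49,51,50,52,51,50,49,51,52,53,50,52,50,51],44,0⟩)) (.leaf ⟨53,[50,53,52,50,49,51,52,51,50,53,50,49,52,51,53,50,52,53,50,52],30,11⟩))) (.node (.node (.node (.leaf ⟨51,[52,54,53,54,53,52,51,54,53,52,53,54],40,5⟩) (.leaf ⟨53,[52,51,53,52,54,53,54,52,54,52,53,52,54,51],41,10⟩)) (.leaf ⟨51,[50,49,50,51,50,49,50,51,50,49,50],6,0⟩)) (.node (.node (.leaf ⟨55,[54,55,54],48,2⟩) (.leaf ⟨50,[49,50,49,50,49,50,49,50,49,50,49],2,0⟩)) (.leaf ⟨49,[51,52,51,50,51,52,51,50,52,51,52,49,50,49,50],13,14⟩)))) (.node (.node (.node (.node (.leaf ⟨50,[53,50,53,50,53,50,53],21,5⟩) (.leaf ⟨52,[50,49,50,49,50,52,53,52,50,49,50,49,50,52,53],26,9⟩)) (.leaf ⟨50,[52,50,49,50,51,52,51,52,51,50,49,50,52,50,49],14,3⟩)) (.node (.node (.leaf ⟨53,[54,51,52,54,53,54,53,52,51,54,53,52],40,3⟩)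 (.leaf ⟨50,[52,50,53,52,53,50,52,50,53,52,53],24,3⟩)) (.leaf ⟨52,[50,53,50,49,52,50,51,50,52,49,50,53,50,49,52,50,51,50,49],29,18⟩))) (.node (.node (.node (.leaf ⟨54,[51,52,54,51,52,51,54,52],39,5⟩) (.leaf ⟨51,[52,51,50,52,51,52,49,50,49,50,49,51,52,51,50],13,3⟩)) (.leaf ⟨50,[53,50,53,50,53,50,53],21,3⟩)) (.node (.node (.leaf ⟨49,[52,49,52],9,1⟩) (.leaf ⟨49,[53,50,49,53,50,49,50,53,49,50,53,49,50,49,50],27,15⟩)) (.leaf ⟨50,[51,50,49,50,51,50,49,50,51,50,49],6,11⟩))))) (.node (.node (.node (.node (.node (.leaf ⟨49,[52,49,52],9,3⟩) (.leaf ⟨50,[52,50,52,50,52,50,52],10,3⟩)) (.node (.leaf ⟨54,[53,54,53,54,53,54,53],38,2⟩) (.leaf ⟨55,[51,55,51,55,51],50,2⟩))) (.node (.node (.leaf ⟨53,[52,51,54,53,52,53,54,51,52,54,53,54],40,10⟩) (.leaf ⟨52,[51,52,51,52,50,52,51,52,51,52,51,50,51],12,0⟩)) (.leaf ⟨53,[50,51,50,53,50,51,50],20,0⟩)))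 (.node (.node (.node (.leaf ⟨52,[51,52,54,52,51,52,54],37,5⟩) (.leaf ⟨52,[53,54,49,53,52,50,52,53,49,54,49,53,52,50,49],42,14⟩)) (.leaf ⟨50,[49,52,50,51,50,51,52,50,49,50,51,52,50,52,49,50,49,51,50,49,51,52],16,1⟩)) (.node (.node (.leaf ⟨49,[55,49,50,49,50,49,55,49,50,49,50],51,5⟩) (.leaf ⟨51,[52,51,52,51,50,51,52,51,52,51,52,50,52],12,7⟩)) (.leaf ⟨53,[50,49,53,50,49,50,53,49,50,53,49,50,49,50,49],27,0⟩)))) (.node (.node (.node (.node (.leaf ⟨51,[52,54,52,51,52,54,52],37,6⟩) (.leaf ⟨52,[53,50,53,50,51,52,53,52,51,50,53,50,52,53],25,4⟩)) (.leaf ⟨49,[53,52,54,53,50,53,54,52,53,49,54,50,49,51,50,51,52,51,50,49,51,50,54],43,1⟩)) (.node (.node (.leaf ⟨49,[50,52,50,49,50,51,52,51,52,51,50,49,50,52,50],14,2⟩) (.leaf ⟨50,[49,50,49,50,49,50,49,50,49,50,49],2,2⟩)) (.leaf ⟨51,[50,52,49,50,53,50,49,52,50,51,50,49,52,50,53,50,49,52,50],29,5⟩)))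 (.node (.node (.node (.leaf ⟨51,[52,51,54,52,54,51,52,54],39,0⟩) (.leaf ⟨50,[52,51,52,49,50,49,50,49,51,52,51,50,51,52,51],13,6⟩)) (.leaf ⟨53,[55,53,52,50,55,53,50,52,51,52,50,53,55,50,52],55,14⟩)) (.node (.node (.leaf ⟨52,[50,49,50,52,50,49,50,51,52,51,52,51,50,49,50],14,0⟩) (.leaf ⟨53,[54,49,51,50,51,52,53,54,49,51,50,49,51,50,52,51,50,49,51,52,53,50,52,50,51,54,49,50],44,3⟩)) (.leaf ⟨49,[52,53,54,49,53,52,50,52,53,49,54,49,53,52,50],42,13⟩))))))) (.node (.node (.node (.node (.node (.node (.node (.leaf ⟨51,[51],3,1⟩) (.leaf ⟨54,[50,54,50],33,0⟩)) (.node (.leaf ⟨49,[50,49,50,52,53,52,50,49,50,49,50,52,53,52,50],26,11⟩) (.leaf ⟨53,[50,53,55,50,49,51,50,49,51,52,51,50,51,53,52,51,50,49,51,52,55,53,50,53,55,53,55],57,7⟩))) (.node (.node (.leaf ⟨52,[51,54,53,52,53,54,51,52,54,53,54,53],40,11⟩) (.leaf ⟨50,[53,50,53,50,53,50,53],21,1⟩))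 (.leaf ⟨50,[52,50,52,50,52,50,52],10,7⟩))) (.node (.node (.node (.leaf ⟨50,[53,52,53,50,52,50,53,52,53,50,52],24,11⟩) (.leaf ⟨53,[52,50,52,53,49,54,49,53,52,50,49,52,53,54,49],42,2⟩)) (.leaf ⟨55,[54,55,54],48,0⟩)) (.node (.node (.leaf ⟨55,[49,55,49,55,49],49,4⟩) (.leaf ⟨50,[49,50,51,50,49,50,51,50,49,50,51],6,1⟩)) (.leaf ⟨55,[50,55,50],46,0⟩)))) (.node (.node (.node (.node (.leaf ⟨50,[51,50,53,50,51,50,53],20,5⟩) (.leaf ⟨51,[50,49,50,51,50,49,50,51,50,49,50],6,4⟩)) (.leaf ⟨55,[51,52,50,49,50,52,51,55,51,52,50,49,50,52,51],54,8⟩)) (.node (.node (.leaf ⟨54,[53,52,53,54,51,52,54,53,54,53,52,51],40,0⟩) (.leaf ⟨53,[52,51,52,51,52,53,52,51,52,51,52],23,0⟩)) (.leaf ⟨53,[50,52,50,53,52,53,50,52,50,53,52],24,8⟩))) (.node (.node (.node (.leaf ⟨51,[54,53,52,53,54,51,52,54,53,54,53,52],40,12⟩) (.leaf ⟨52,[53,54,49,51,50,49,51,50,52,51,50,49,51,52,53,50,52,50,51,54,49,50,53,54,49,51,50,51],44,9⟩))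 (.leaf ⟨50,[53,55,50,52,53,55,53,52,50,55,53,50,52,51,52],55,9⟩)) (.node (.node (.leaf ⟨50,[49,50,52,53,52,50,49,50,49,50,52,53,52,50,49],26,12⟩) (.leaf ⟨50,[52,53,52,53,50,53,50,51,52,53,52,51,50,53],25,1⟩)) (.leaf ⟨52,[54,51,53,52,51,53,52,54,53,54,52,54,52,53],41,7⟩))))) (.node (.node (.node (.node (.node (.leaf ⟨50,[54,50,54],33,3⟩) (.leaf ⟨52,[50,49,50,49,50,52,53,52,50,49,50,49,50,52,53],26,1⟩)) (.node (.leaf ⟨54,[51,52,51,54,52,54,51,52],39,8⟩) (.leaf ⟨52,[55,52,55],47,1⟩))) (.node (.node (.leaf ⟨51,[52,51,52,53,52,51,52,51,52,53,52],23,8⟩) (.leaf ⟨55,[49,50,49,50,49,55,49,50,49,50,49],51,0⟩)) (.leaf ⟨50,[49,50,49,51,52,51,50,51,52,51,50,52,51,52,49],13,11⟩))) (.node (.node (.node (.leaf ⟨52,[50,52,50,52,50,52,50],10,4⟩) (.leaf ⟨54,[52,54,52,53,52,54,51,53,52,51,53,52,54,53],41,2⟩)) (.leaf ⟨50,[53,54,52,53,49,54,50,49,51,50,51,52,51,50,49,51,50,54,49,53,52,54,53],43,6⟩))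 (.node (.node (.leaf ⟨55,[49,50,49,50,49,55,49,50,49,50,49],51,6⟩) (.leaf ⟨49,[50,52,53,52,50,49,50,49,50,52,53,52,50,49,50],26,5⟩)) (.leaf ⟨50,[49,50,53,50,52,50,53,50,49,50,53,50,52,50,53],28,13⟩)))) (.node (.node (.node (.node (.leaf ⟨50,[52,54,52,50,52,54,52],36,6⟩) (.leaf ⟨53,[50,53,50,51,52,53,52,51,50,53,50,52,53,52],25,5⟩)) (.leaf ⟨50,[49,51,52,50,49,52,50,51,50,51,52,50,49,50,51,52,50,52,49,50,49,51],16,20⟩)) (.node (.node (.leaf ⟨53,[54,49,53,52,50,52,53,49,54,49,53,52,50,49,52],42,15⟩) (.leaf ⟨53,[54,53,54,53,54,53,54],38,1⟩)) (.leaf ⟨53,[50,52,53,52,53,50,53,50,51,52,53,52,51,50],25,0⟩))) (.node (.node (.node (.leaf ⟨54,[52,50,52,54,52,50,52],36,4⟩) (.leaf ⟨49,[51,50,49,51,50,51,49,50,51,49,50,51,49,50],7,1⟩)) (.leaf ⟨51,[52,53,52,51,50,53,50,52,53,52,53,50,53,50],25,9⟩)) (.node (.node (.leaf ⟨49,[50,53,55,53,50,49,50,53,55,53,50],52,9⟩)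 (.leaf ⟨50,[52,50,53,50,49,50,53,50,52,50,53,50,49,50,53],28,1⟩)) (.leaf ⟨54,[49,53,52,50,49,52,53,54,49,53,52,50,52,53,49],42,8⟩)))))) (.node (.node (.node (.node (.node (.node (.leaf ⟨52,[52],8,1⟩) (.leaf ⟨53,[49,54,49,53,52,50,49,52,53,54,49,53,52,50,52],42,6⟩)) (.node (.leaf ⟨50,[49,51,52,51,50,51,52,51,50,52,51,52,49,50,49],13,13⟩) (.leaf ⟨52,[50,55,53,50,52,51,52,50,53,55,50,52,53,55,53],55,1⟩))) (.node (.node (.leaf ⟨53,[52,53,52,53,52,53,52],22,2⟩) (.leaf ⟨52,[51,52,51,52,51,50,51,52,51,52,51,52,50],12,6⟩)) (.leaf ⟨52,[53,50,52,53,55,53,52,50,53,49,52,50,53,51,55,51,53,50,49],56,15⟩))) (.node (.node (.node (.leaf ⟨50,[51,50,49,50,51,50,49,50,51,50,49],6,7⟩) (.leaf ⟨53,[50,52,50,53,50,49,50,53,50,52,50,53,50,49,50],28,8⟩)) (.leaf ⟨55,[51,52,50,49,50,52,51,55,51,52,50,49,50,52,51],54,0⟩)) (.node (.node (.leaf ⟨49,[55,49,55,49,55],49,3⟩)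 (.leaf ⟨49,[50,53,49,50,49,50,49,53,50,49,53,50,49,50,53],27,8⟩)) (.leaf ⟨50,[53,50,51,50,53,50,51],20,3⟩)))) (.node (.node (.node (.node (.leaf ⟨53,[51,53,51],19,2⟩) (.leaf ⟨53,[52,53,52,53,52,53,52],22,0⟩)) (.leaf ⟨51,[53,52,51,53,52,54,53,54,52,54,52,53,52,54],41,9⟩)) (.node (.node (.leaf ⟨52,[51,52,51,52,53,52,51,52,51,52,53],23,1⟩) (.leaf ⟨53,[54,53,54,53,54,53,54],38,3⟩)) (.leaf ⟨49,[50,49,50,49,50,49,50,49,50,49,50],2,11⟩))) (.node (.node (.node (.leaf ⟨50,[49,52,53,54,49,53,52,50,52,53,49,54,49,53,52],42,12⟩) (.leaf ⟨49,[53,52,50,49,52,53,54,49,53,52,50,52,53,49,54],42,9⟩)) (.leaf ⟨52,[51,50,53,50,52,53,52,53,50,53,50,51,52,53],25,12⟩)) (.node (.node (.leaf ⟨51,[50,51,52,51,50,52,51,52,49,50,49,50,49,51,52],13,1⟩) (.leaf ⟨53,[52,50,49,50,49,50,52,53,52,50,49,50,49,50,52],26,8⟩)) (.leaf ⟨52,[50,52,50,52,50,52,50],10,0⟩)))))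 (.node (.node (.node (.node (.node (.leaf ⟨54,[49,54,49,54,49],35,4⟩) (.leaf ⟨53,[50,52,50,53,52,53,50,52,50,53,52],24,2⟩)) (.node (.leaf ⟨50,[49,50,52,50,49,50,52,50,49,50,51,52,51,52,51],14,13⟩) (.leaf ⟨55,[49,55,49,55,49],49,0⟩))) (.node (.node (.leaf ⟨52,[53,54,51,52,54,53,54,53,52,51,54,53],40,2⟩) (.leaf ⟨49,[50,49,50,49,50,49,50,49,50,49,50],2,1⟩)) (.leaf ⟨52,[53,52,53,52,53,52,53],22,3⟩))) (.node (.node (.node (.leaf ⟨52,[51,52,54,52,51,52,54],37,1⟩) (.leaf ⟨50,[51,52,53,52,51,50,53,50,52,53,52,53,50,53],25,8⟩)) (.leaf ⟨50,[51,52,51,52,51,52,50,52,51,52,51,52,51],12,12⟩)) (.node (.node (.leaf ⟨50,[49,55,49,50,49,50,49,55,49,50,49],51,10⟩) (.leaf ⟨53,[52,50,49,50,49,50,52,53,52,50,49,50,49,50,52],26,0⟩)) (.leaf ⟨50,[52,53,52,50,49,50,49,50,52,53,52,50,49,50,49],26,6⟩)))) (.node (.node (.node (.node (.leaf ⟨51,[50,53,50,51,50,53,50],20,6⟩)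 (.leaf ⟨50,[51,49,50,51,49,50,49,51,50,49,51,50,51,49],7,9⟩)) (.leaf ⟨53,[49,53,49],18,0⟩)) (.node (.node (.leaf ⟨54,[52,53,52,54,51,53,52,51,53,52,54,53,54,52],41,4⟩) (.leaf ⟨53,[55,53,50,49,50,53,55,53,50,49,50],52,11⟩)) (.leaf ⟨53,[52,50,55,53,50,52,51,52,50,53,55,50,52,53,55],55,0⟩))) (.node (.node (.node (.leaf ⟨52,[54,51,52,51,54,52,54,51],39,7⟩) (.leaf ⟨53,[50,49,52,50,51,50,49,52,50,53,50,49,52,50,51,50,52,49,50],29,10⟩)) (.leaf ⟨53,[54,53,55,53,54,53,55,53,54,53,55],53,5⟩)) (.node (.node (.leaf ⟨50,[49,53,50,49,50,53,49,50,53,49,50,49,50,49,53],27,1⟩) (.leaf ⟨49,[52,50,52,53,52,53,50,53,52,49,50,52,53,52,49,50,53,50,49,50],31,17⟩)) (.leaf ⟨50,[49,52,53,50,52,53,55,53,52,50,53,49,52,50,53,51,55,51,53],56,13⟩)))))))) (.node (.node (.node (.node (.node (.node (.node (.node (.leaf ⟨49,[49],0,1⟩) (.leaf ⟨52,[50,53,49,52,50,53,51,55,51,53,50,49,52,53,50,52,53,55,53],56,2⟩))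 (.node (.leaf ⟨49,[50,52,53,52,50,49,50,49,50,52,53,52,50,49,50],26,13⟩) (.leaf ⟨53,[55,53,50,53,55,50,49,51,50,49,51,52,51,50,51,53,52,51,50,49,51,52,55,53,50,53,55],57,5⟩))) (.node (.node (.leaf ⟨52,[54,53,54,53,52,51,54,53,52,53,54,51],40,6⟩) (.leaf ⟨53,[52,53,52,53,52,53,52],22,6⟩)) (.leaf ⟨50,[52,50,53,52,53,50,52,50,53,52,53],24,9⟩))) (.node (.node (.node (.leaf ⟨54,[52,54,51,52,54,51,52,51],39,3⟩) (.leaf ⟨53,[54,53,54,53,54,53,54],38,7⟩)) (.leaf ⟨49,[54,49,54,49,54],35,5⟩)) (.node (.node (.leaf ⟨51,[50,52,50,51,50,49,50,52,50,49,50,52,50,49,52,50,52,51,50,52,50],15,10⟩) (.leaf ⟨51,[52,51,50,51,52,51,52,51,52,50,52,51,52],12,9⟩)) (.leaf ⟨55,[53,54,53,55,53,54,53,55,53,54,53],53,4⟩)))) (.node (.node (.node (.node (.leaf ⟨50,[51,50,51,50,51,50,51],5,5⟩) (.leaf ⟨51,[52,51,52,51,52,50,52,51,52,51,52,51,50],12,13⟩)) (.leaf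 ⟨54,[53,54,52,54,52,53,52,54,51,53,52,51,53,52],41,0⟩)) (.node (.node (.leaf ⟨54,[53,52,51,54,53,52,53,54,51,52,54,53],40,9⟩) (.leaf ⟨54,[53,54,53,54,53,54,53],38,6⟩)) (.leaf ⟨52,[50,52,50,52,50,52,50],10,2⟩))) (.node (.node (.node (.leaf ⟨52,[50,53,52,53,50,52,50,53,52,53,50],24,10⟩) (.leaf ⟨52,[53,49,54,50,49,51,50,51,52,51,50,49,51,50,54,49,53,52,54,53,50,53,54],43,9⟩)) (.leaf ⟨50,[52,51,52,50,53,55,50,52,53,55,53,52,50,55,53],55,5⟩)) (.node (.node (.leaf ⟨52,[51,50,52,51,52,49,50,49,50,49,51,52,51,50,51],13,4⟩) (.leaf ⟨50,[53,49,50,49,50,49,53,50,49,53,50,49,50,53,49],27,9⟩)) (.leaf ⟨51,[52,50,52,51,52,51,52,51,50,51,52,51,52],12,3⟩))))) (.node (.node (.node (.node (.node (.leaf ⟨51,[53,51,53],19,3⟩) (.leaf ⟨52,[53,52,50,49,50,49,50,52,53,52,50,49,50,49,50],26,7⟩)) (.node (.leaf ⟨49,[50,51,50,49,50,51,50,49,50,51,50],6,6⟩)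 (.leaf ⟨55,[51,50,51,55,53,55,51,50,51,55,50,49,50,49,51,50,49,50,49,52,50,51,50,49,51,50,49,53],58,0⟩))) (.node (.node (.leaf ⟨51,[52,53,52,51,52,51,52,53,52,51,52],23,10⟩) (.leaf ⟨49,[54,49,54,49,54],35,1⟩)) (.leaf ⟨55,[53,52,50,53,49,52,50,53,51,55,51,53,50,49,52,53,50,52,53],56,0⟩))) (.node (.node (.node (.leaf ⟨52,[55,52,55],47,3⟩) (.leaf ⟨50,[53,52,53,50,52,50,53,52,53,50,52],24,5⟩)) (.leaf ⟨52,[50,49,52,50,51,50,51,52,50,49,50,51,52,50,52,49,50,49,51,50,49,51],16,0⟩)) (.node (.node (.leaf ⟨49,[50,49,55,49,50,49,50,49,55,49,50],51,9⟩) (.leaf ⟨52,[50,49,50,51,52,51,52,51,50,49,50,52,50,49,50],14,4⟩)) (.leaf ⟨50,[49,52,50,53,50,49,52,50,51,50,52,49,50,53,50,49,52,50,51],29,16⟩)))) (.node (.node (.node (.node (.leaf ⟨52,[53,52,53,52,53,52,53],22,5⟩) (.leaf ⟨49,[50,51,50,49,50,51,50,49,50,51,50],6,10⟩)) (.leaf ⟨54,[53,54,53,52,51,54,53,52,53,54,51,52],40,7⟩))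 (.node (.node (.leaf ⟨49,[53,52,50,52,53,49,54,49,53,52,50,49,52,53,54],42,1⟩) (.leaf ⟨54,[53,55,53,54,53,55,53,54,53,55,53],53,10⟩)) (.leaf ⟨51,[50,49,51,50,51,49,50,51,49,50,51,49,50,49],7,2⟩))) (.node (.node (.node (.leaf ⟨54,[53,54,53,54,53,54,53],38,4⟩) (.leaf ⟨49,[50,49,50,49,50,49,50,49,50,49,50],2,5⟩)) (.leaf ⟨51,[50,53,50,52,53,52,53,50,53,50,51,52,53,52],25,13⟩)) (.node (.node (.leaf ⟨52,[51,50,51,52,51,50,52,51,52,49,50,49,50,49,51],13,0⟩) (.leaf ⟨50,[49,50,53,55,53,50,49,50,53,55,53],52,8⟩)) (.leaf ⟨53,[49,50,49,50,49,53,50,49,53,50,49,50,53,49,50],27,10⟩)))))) (.node (.node (.node (.node (.node (.node (.leaf ⟨54,[54],32,1⟩) (.leaf ⟨49,[50,53,49,50,53,49,50,49,50,49,53,50,49,53,50],27,5⟩)) (.node (.leaf ⟨49,[50,52,51,55,51,52,50,49,50,52,51,55,51,52,50],54,12⟩) (.leaf ⟨53,[55,53,55,53,50,53,55,50,49,51,50,49,51,52,51,50,51,53,52,51,50,49,51,52,55,53,50],57,3⟩)))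 (.node (.node (.leaf ⟨52,[54,51,52,54,51,52,51,54],39,4⟩) (.leaf ⟨50,[49,50,51,52,51,52,51,50,49,50,52,50,49,50,52],14,5⟩)) (.leaf ⟨51,[52,51,52,50,52,51,52,51,52,51,50,51,52],12,1⟩))) (.node (.node (.node (.leaf ⟨50,[55,50,55],46,3⟩) (.leaf ⟨52,[49,50,49,50,49,51,52,51,50,51,52,51,50,52,51],13,9⟩)) (.leaf ⟨53,[52,51,50,53,50,52,53,52,53,50,53,50,51,52],25,11⟩)) (.node (.node (.leaf ⟨55,[52,55,52],47,2⟩) (.leaf ⟨49,[53,50,49,50,53,49,50,53,49,50,49,50,49,53,50],27,2⟩)) (.leaf ⟨54,[49,54,49,54,49],35,2⟩)))) (.node (.node (.node (.node (.leaf ⟨53,[54,53,54,53,54,53,54],38,5⟩) (.leaf ⟨52,[53,55,53,52,50,53,49,52,50,53,51,55,51,53,50,49,52,53,50],56,18⟩)) (.leaf ⟨49,[50,49,51,52,51,50,51,52,51,50,52,51,52,49,50],13,12⟩)) (.node (.node (.leaf ⟨52,[53,52,51,52,51,52,53,52,51,52,51],23,5⟩) (.leaf ⟨49,[50,49,50,49,50,49,50,49,50,49,50],2,3⟩))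 (.leaf ⟨49,[50,53,50,49,52,50,51,50,49,52,50,53,50,49,52,50,51,50,52],29,8⟩))) (.node (.node (.node (.leaf ⟨53,[51,53,51],19,0⟩) (.leaf ⟨51,[50,51,52,53,54,49,51,50,49,51,50,52,51,50,49,51,52,53,50,52,50,51,54,49,50,53,54,49],44,6⟩)) (.leaf ⟨53,[50,53,50,53,50,53,50],21,4⟩)) (.node (.node (.leaf ⟨51,[52,54,51,52,51,54,52,54],39,6⟩) (.leaf ⟨50,[52,51,55,51,52,50,49,50,52,51,55,51,52,50,49],54,13⟩)) (.leaf ⟨50,[49,50,51,50,49,50,51,50,49,50,51],6,5⟩))))) (.node (.node (.node (.node (.node (.leaf ⟨51,[49,51,49],4,0⟩) (.leaf ⟨51,[52,51,52,53,52,51,52,51,52,53,52],23,2⟩)) (.node (.leaf ⟨50,[51,52,51,52,51,50,49,50,52,50,49,50,52,50,49],14,7⟩) (.leaf ⟨51,[55,51,55,51,55],50,1⟩))) (.node (.node (.leaf ⟨51,[52,54,52,51,52,54,52],37,2⟩) (.leaf ⟨50,[51,50,51,50,51,50,51],5,3⟩)) (.leaf ⟨49,[53,49,53],18,1⟩))) (.node (.node (.node (.leaf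 ⟨52,[54,52,50,52,54,52,50],36,3⟩) (.leaf ⟨50,[52,53,52,50,49,50,49,50,52,53,52,50,49,50,49],26,14⟩)) (.leaf ⟨52,[50,53,50,49,50,53,50,52,50,53,50,49,50,53,50],28,10⟩)) (.node (.node (.leaf ⟨50,[49,50,49,55,49,50,49,50,49,55,49],51,8⟩) (.leaf ⟨52,[53,52,51,52,51,52,53,52,51,52,51],23,11⟩)) (.leaf ⟨50,[53,50,49,52,50,51,50,49,52,50,53,50,49,52,50,51,50,52,49],29,9⟩)))) (.node (.node (.node (.node (.leaf ⟨52,[49,52,49],9,2⟩) (.leaf ⟨53,[50,52,51,52,50,53,55,50,52,53,55,53,52,50,55],55,4⟩)) (.leaf ⟨52,[49,52,49],9,0⟩)) (.node (.node (.leaf ⟨52,[54,52,53,52,54,51,53,52,51,53,52,54,53,54],41,3⟩) (.leaf ⟨49,[50,51,50,49,50,51,50,49,50,51,50],6,2⟩)) (.leaf ⟨52,[53,52,53,52,53,52,53],22,7⟩))) (.node (.node (.node (.leaf ⟨51,[50,51,50,51,50,51,50],5,4⟩) (.leaf ⟨53,[50,49,52,50,51,50,52,49,50,53,50,49,52,50,51,50,49,52,50],29,0⟩)) (.leaf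 ⟨52,[50,53,52,53,50,52,50,53,52,53,50],24,4⟩)) (.node (.node (.leaf ⟨49,[50,49,53,50,49,53,50,49,50,53,49,50,53,49,50],27,13⟩) (.leaf ⟨50,[52,53,52,49,50,53,50,49,50,49,52,50,52,53,52,53,50,53,52,49],31,7⟩)) (.leaf ⟨50,[53,51,55,51,53,50,49,52,53,50,52,53,55,53,52,50,53,49,52],56,7⟩))))))) (.node (.node (.node (.node (.node (.node (.node (.leaf ⟨53,[53],17,1⟩) (.leaf ⟨53,[55,53,50,49,50,53,55,53,50,49,50],52,5⟩)) (.node (.leaf ⟨55,[53,54,53,55,53,54,53,55,53,54,53],53,8⟩) (.leaf ⟨55,[53,55,53,50,53,55,50,49,51,50,49,51,52,51,50,51,53,52,51,50,49,51,52,55,53,50,53],57,4⟩))) (.node (.node (.leaf ⟨54,[52,50,52,54,52,50,52],36,0⟩) (.leaf ⟨54,[49,51,50,51,52,53,54,49,51,50,49,51,50,52,51,50,49,51,52,53,50,52,50,51,54,49,50,53],44,4⟩)) (.leaf ⟨52,[53,50,52,50,53,52,53,50,52,50,53],24,1⟩))) (.node (.node (.node (.leaf ⟨49,[50,49,50,49,50,49,50,49,50,49,50],2,7⟩)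 (.leaf ⟨49,[50,49,50,49,51,52,51,50,51,52,51,50,52,51,52],13,10⟩)) (.leaf ⟨50,[51,50,53,50,51,50,53],20,1⟩)) (.node (.node (.leaf ⟨55,[50,55,50],46,2⟩) (.leaf ⟨50,[49,50,49,50,49,50,49,50,49,50,49],2,8⟩)) (.leaf ⟨52,[53,52,54,51,53,52,51,53,52,54,53,54,52,54],41,5⟩)))) (.node (.node (.node (.node (.leaf ⟨50,[53,50,51,50,53,50,51],20,7⟩) (.leaf ⟨51,[50,53,50,51,50,53,50],20,2⟩)) (.leaf ⟨50,[49,50,52,50,49,50,51,52,51,52,51,50,49,50,52],14,1⟩)) (.node (.node (.leaf ⟨51,[54,51,54],34,1⟩) (.leaf ⟨53,[50,53,50,53,50,53,50],21,2⟩)) (.leaf ⟨52,[53,52,53,52,53,52,53],22,1⟩))) (.node (.node (.node (.leaf ⟨54,[51,54,51],34,0⟩) (.leaf ⟨52,[51,50,53,50,49,52,51,53,50,52,53,50,52,53,50,53,52,50,49,51],30,18⟩)) (.leaf ⟨53,[50,51,50,53,50,51,50],20,4⟩)) (.node (.node (.leaf ⟨52,[50,52,53,49,54,49,53,52,50,49,52,53,54,49,53],42,3⟩) (.leaf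 ⟨50,[55,50,55],46,1⟩)) (.leaf ⟨50,[53,50,52,53,52,53,50,53,50,51,52,53,52,51],25,14⟩))))) (.node (.node (.node (.node (.node (.leaf ⟨51,[54,51,54],34,3⟩) (.leaf ⟨50,[53,52,49,50,52,53,52,49,50,53,50,49,50,49,52,50,52,53,52,53],31,3⟩)) (.node (.leaf ⟨51,[52,51,52,51,52,51,52,51,52,51,52],11,11⟩) (.leaf ⟨55,[51,55,51,55,51],50,0⟩))) (.node (.node (.leaf ⟨53,[54,53,52,51,54,53,52,53,54,51,52,54],40,8⟩) (.leaf ⟨51,[50,52,51,52,49,50,49,50,49,51,52,51,50,51,52],13,5⟩)) (.leaf ⟨50,[51,52,51,50,52,51,52,49,50,49,50,49,51,52,51],13,2⟩))) (.node (.node (.node (.leaf ⟨52,[50,52,54,52,50,52,54],36,5⟩) (.leaf ⟨49,[50,52,50,49,50,52,50,49,50,51,52,51,52,51,50],14,14⟩)) (.leaf ⟨52,[50,51,50,52,50,51,50,49,50,52,50,49,50,52,50,49,52,50,52,51,50],15,8⟩)) (.node (.node (.leaf ⟨49,[50,49,50,49,55,49,50,49,50,49,55],51,7⟩) (.leaf ⟨52,[53,55,53,52,50,55,53,50,52,51,52,50,53,55,50],55,13⟩))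 (.leaf ⟨54,[49,53,52,50,52,53,49,54,49,53,52,50,49,52,53],42,0⟩)))) (.node (.node (.node (.node (.leaf ⟨52,[54,52,50,52,54,52,50],36,7⟩) (.leaf ⟨50,[52,50,52,50,52,50,52],10,1⟩)) (.leaf ⟨49,[54,50,49,51,50,51,52,51,50,49,51,50,54,49,53,52,54,53,50,53,54,52,53],43,11⟩)) (.node (.node (.leaf ⟨54,[49,54,49,54,49],35,0⟩) (.leaf ⟨50,[53,50,53,50,53,50,53],21,7⟩)) (.leaf ⟨53,[50,51,52,53,52,51,50,53,50,52,53,52,53,50],25,7⟩))) (.node (.node (.node (.leaf ⟨54,[52,51,52,54,52,51,52],37,4⟩) (.leaf ⟨51,[49,50,51,49,50,51,49,50,49,51,50,49,51,50],7,7⟩)) (.leaf ⟨51,[52,50,53,55,50,52,53,55,53,52,50,55,53,50,52],55,7⟩)) (.node (.node (.leaf ⟨55,[53,50,49,50,53,55,53,50,49,50,53],52,6⟩) (.leaf ⟨50,[52,50,51,54,49,50,53,54,49,51,50,51,52,53,54,49,51,50,49,51,50,52,51,50,49,51,52,53],44,25⟩)) (.leaf ⟨52,[53,49,54,49,53,52,50,49,52,53,54,49,53,52,50],42,5⟩))))))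 (.node (.node (.node (.node (.node (.node (.leaf ⟨49,[51,49,51],4,3⟩) (.leaf ⟨50,[53,49,52,50,53,51,55,51,53,50,49,52,53,50,52,53,55,53,52],56,3⟩)) (.node (.leaf ⟨51,[52,51,50,49,50,52,50,49,50,52,50,49,50,51,52],14,10⟩) (.leaf ⟨53,[55,51,50,51,55,50,49,50,49,51,50,49,50,49,52,50,51,50,49,51,50,49,53,55,51,50,51,55],58,5⟩))) (.node (.node (.leaf ⟨52,[51,52,50,52,51,52,51,52,51,50,51,52,51],12,2⟩) (.leaf ⟨51,[50,51,50,51,50,51,50],5,2⟩)) (.leaf ⟨49,[52,50,53,51,55,51,53,50,49,52,53,50,52,53,55,53,52,50,53],56,5⟩))) (.node (.node (.node (.leaf ⟨50,[49,50,51,50,49,50,51,50,49,50,51],6,9⟩) (.leaf ⟨50,[49,50,49,50,52,53,52,50,49,50,49,50,52,53,52],26,10⟩)) (.leaf ⟨50,[49,51,50,49,51,50,51,49,50,51,49,50,51,49],7,0⟩)) (.node (.node (.leaf ⟨55,[51,55,51,55,51],50,4⟩) (.leaf ⟨50,[49,50,49,50,49,50,49,50,49,50,49],2,6⟩)) (.leaf ⟨53,[52,53,50,52,50,53,52,53,50,52,50],24,6⟩))))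 (.node (.node (.node (.node (.leaf ⟨53,[49,53,49],18,2⟩) (.leaf ⟨54,[51,53,52,51,53,52,54,53,54,52,54,52,53,52],41,8⟩)) (.leaf ⟨51,[53,51,53],19,1⟩)) (.node (.node (.leaf ⟨52,[51,52,53,52,51,52,51,52,53,52,51],23,3⟩) (.leaf ⟨54,[51,52,54,53,54,53,52,51,54,53,52,53],40,4⟩)) (.leaf ⟨49,[50,52,51,55,51,52,50,49,50,52,51,55,51,52,50],54,4⟩))) (.node (.node (.node (.leaf ⟨54,[55,54,55],48,3⟩) (.leaf ⟨51,[50,51,50,51,50,51,50],5,6⟩)) (.leaf ⟨50,[53,49,50,53,49,50,49,50,49,53,50,49,53,50,49],27,6⟩)) (.node (.node (.leaf ⟨49,[51,49,51],4,1⟩) (.leaf ⟨53,[54,52,54,52,53,52,54,51,53,52,51,53,52,54],41,1⟩)) (.leaf ⟨50,[51,50,51,50,51,50,51],5,1⟩))))) (.node (.node (.node (.node (.node (.leaf ⟨54,[51,54,51],34,2⟩) (.leaf ⟨55,[49,55,49,55,49],49,2⟩)) (.node (.leaf ⟨51,[50,49,52,50,53,50,49,52,50,51,50,52,49,50,53,50,49,52,50],29,15⟩) (.leaf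 ⟨49,[55,49,55,49,55],49,1⟩))) (.node (.node (.leaf ⟨53,[52,53,54,51,52,54,53,54,53,52,51,54],40,1⟩) (.leaf ⟨52,[51,52,51,52,53,52,51,52,51,52,53],23,7⟩)) (.leaf ⟨55,[52,55,52],47,0⟩))) (.node (.node (.node (.leaf ⟨52,[51,52,53,52,51,52,51,52,53,52,51],23,9⟩) (.leaf ⟨50,[52,53,49,54,49,53,52,50,49,52,53,54,49,53,52],42,4⟩)) (.leaf ⟨55,[53,52,50,55,53,50,52,51,52,50,53,55,50,52,53],55,15⟩)) (.node (.node (.leaf ⟨51,[50,49,50,51,50,49,50,51,50,49,50],6,8⟩) (.leaf ⟨50,[52,53,55,53,52,50,55,53,50,52,51,52,50,53,55],55,12⟩)) (.leaf ⟨55,[53,50,49,50,53,55,53,50,49,50,53],52,0⟩)))) (.node (.node (.node (.node (.leaf ⟨51,[49,51,49],4,2⟩) (.leaf ⟨50,[52,51,52,51,52,51,50,51,52,51,52,51,52],12,5⟩)) (.leaf ⟨50,[54,50,54],33,1⟩)) (.node (.node (.leaf ⟨51,[53,52,54,53,54,52,54,52,53,52,54,51,53,52],41,12⟩) (.leaf ⟨54,[53,54,53,54,53,54,53],38,0⟩))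 (.leaf ⟨50,[53,55,53,50,49,50,53,55,53,50,49],52,4⟩))) (.node (.node (.node (.leaf ⟨52,[51,54,52,54,51,52,54,51],39,1⟩) (.leaf ⟨52,[49,50,53,50,49,50,49,52,50,52,53,52,53,50,53,52,49,50,52,53],31,10⟩)) (.leaf ⟨53,[55,53,54,53,55,53,54,53,55,53,54],53,11⟩)) (.node (.node (.leaf ⟨49,[50,53,50,52,50,53,50,49,50,53,50,52,50,53,50],28,14⟩) (.leaf ⟨50,[51,54,49,50,53,54,49,51,50,51,52,53,54,49,51,50,49,51,50,52,51,50,49,51,52,53,50,52],44,27⟩)) (.leaf ⟨51,[50,51,50,51,50,51,50],5,0⟩)))))))))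
noncomputable def tc0 : TCL := ⟨[49,50,51,52,53,54,55], [49,50,51,52,53,54], 3510, 36, 0x1ffff, 17, 0x1ff,
  fun a x => look 0xfffffffff (nth tc0T 0 a) x, fun x => look 0xfffffffff tc0d x, tc0r⟩
noncomputable def tc1T : List ℕ := [0,0,0,0,0,0,0,0,0,0,0,0,0,0,0,0,0,0,0,0,0,0,0,0,0,0,0,0,0,0,0,0,0,0,0,0,0,0,0,0,0,0,0,0,0,0,0,0,0,tc1t49,tc1t50,tc1t51,tc1t52,tc1t53,tc1t54]
noncomputable def tc1r : Tr Rule := (.node (.node (.node (.node (.node (.node (.node (.node (.leaf ⟨54,[54],32,1⟩) (.leaf ⟨50,[52,49,50,53,50,49,52,50,51,50,49,52,50,53,50,49,52,50,51],29,6⟩)) (.node (.leaf ⟨54,[51,52,54,51,52,51,54,52],39,5⟩) (.leaf ⟨49,[51,52,51,50,51,52,51,50,52,51,52,49,50,49,50],13,14⟩))) (.node (.node (.leaf ⟨52,[51,52,54,52,51,52,54],37,5⟩) (.leaf ⟨53,[49,50,53,49,50,49,50,49,53,50,49,53,50,49,50],27,7⟩)) (.node (.leaf ⟨53,[50,51,50,53,50,51,50],20,4⟩)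 (.leaf ⟨50,[53,54,49,51,50,51,52,53,54,49,51,50,49,51,50,52,51,50,49,51,52,53,50,52,50,51,54,49],44,2⟩)))) (.node (.node (.node (.leaf ⟨50,[53,50,52,50,53,50,49,50,53,50,52,50,53,50,49],28,15⟩) (.leaf ⟨53,[51,53,51],19,0⟩)) (.node (.leaf ⟨52,[53,52,53,52,53,52,53],22,7⟩) (.leaf ⟨52,[53,52,51,50,53,50,52,53,52,53,50,53,50,51],25,10⟩))) (.node (.node (.leaf ⟨50,[51,50,51,50,51,50,51],5,1⟩) (.leaf ⟨53,[52,50,49,52,53,54,49,53,52,50,52,53,49,54,49],42,10⟩)) (.leaf ⟨49,[50,49,50,52,53,52,50,49,50,49,50,52,53,52,50],26,3⟩)))) (.node (.node (.node (.node (.leaf ⟨51,[53,51,53],19,3⟩) (.leaf ⟨53,[49,53,49],18,0⟩)) (.node (.leaf ⟨52,[50,49,50,51,52,51,52,51,50,49,50,52,50,49,50],14,4⟩) (.leaf ⟨53,[52,51,52,51,52,53,52,51,52,51,52],23,6⟩))) (.node (.node (.leaf ⟨49,[50,49,51,52,51,50,51,52,51,50,52,51,52,49,50],13,12⟩) (.leaf ⟨50,[51,50,49,50,51,50,49,50,51,50,49],6,7⟩))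 (.node (.leaf ⟨53,[50,53,50,53,50,53,50],21,4⟩) (.leaf ⟨53,[54,53,54,53,54,53,54],38,7⟩)))) (.node (.node (.node (.leaf ⟨54,[51,54,51],34,2⟩) (.leaf ⟨52,[53,52,53,52,53,52,53],22,1⟩)) (.node (.leaf ⟨52,[51,52,53,52,51,52,51,52,53,52,51],23,9⟩) (.leaf ⟨51,[50,51,52,53,54,49,51,50,49,51,50,52,51,50,49,51,52,53,50,52,50,51,54,49,50,53,54,49],44,6⟩))) (.node (.node (.leaf ⟨49,[54,49,54,49,54],35,3⟩) (.leaf ⟨52,[50,52,50,52,50,52,50],10,0⟩)) (.leaf ⟨49,[50,49,50,49,50,49,50,49,50,49,50],2,9⟩))))) (.node (.node (.node (.node (.node (.leaf ⟨50,[50],1,1⟩) (.leaf ⟨49,[50,53,50,52,50,53,50,49,50,53,50,52,50,53,50],28,14⟩)) (.node (.leaf ⟨54,[52,54,51,52,54,51,52,51],39,3⟩) (.leaf ⟨52,[51,52,49,50,49,50,49,51,52,51,50,51,52,51,50],13,7⟩))) (.node (.node (.leaf ⟨51,[52,51,52,51,50,51,52,51,52,51,52,50,52],12,7⟩) (.leaf ⟨50,[52,50,53,52,53,50,52,50,53,52,53],24,9⟩))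 (.node (.leaf ⟨51,[52,51,52,53,52,51,52,51,52,53,52],23,2⟩) (.leaf ⟨51,[50,51,50,51,50,51,50],5,6⟩)))) (.node (.node (.node (.leaf ⟨51,[50,51,50,51,50,51,50],5,4⟩) (.leaf ⟨53,[50,53,50,53,50,53,50],21,2⟩)) (.node (.leaf ⟨52,[54,52,50,52,54,52,50],36,7⟩) (.leaf ⟨50,[49,50,51,52,50,52,49,50,49,51,50,49,51,52,50,49,52,50,51,50,51,52],16,9⟩))) (.node (.node (.leaf ⟨50,[52,50,51,50,49,50,52,50,49,50,52,50,49,52,50,52,51,50,52,50,51],15,11⟩) (.leaf ⟨53,[49,54,49,53,52,50,49,52,53,54,49,53,52,50,52],42,6⟩)) (.leaf ⟨49,[50,49,51,50,49,51,52,50,49,52,50,51,50,51,52,50,49,50,51,52,50,52],16,16⟩)))) (.node (.node (.node (.node (.leaf ⟨50,[53,50,53,50,53,50,53],21,5⟩) (.leaf ⟨51,[53,51,53],19,1⟩)) (.node (.leaf ⟨54,[52,53,52,54,51,53,52,51,53,52,54,53,54,52],41,4⟩) (.leaf ⟨53,[50,52,53,52,53,50,53,50,51,52,53,52,51,50],25,0⟩))) (.node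 (.node (.leaf ⟨50,[51,52,51,50,52,51,52,49,50,49,50,49,51,52,51],13,2⟩) (.leaf ⟨50,[51,50,51,50,51,50,51],5,7⟩)) (.node (.leaf ⟨53,[51,53,51],19,2⟩) (.leaf ⟨50,[53,50,53,50,53,50,53],21,1⟩)))) (.node (.node (.node (.leaf ⟨52,[54,52,50,52,54,52,50],36,3⟩) (.leaf ⟨49,[51,50,49,51,50,51,49,50,51,49,50,51,49,50],7,1⟩)) (.node (.leaf ⟨50,[49,52,53,54,49,53,52,50,52,53,49,54,49,53,52],42,12⟩) (.leaf ⟨53,[54,49,51,50,51,52,53,54,49,51,50,49,51,50,52,51,50,49,51,52,53,50,52,50,51,54,49,50],44,3⟩))) (.node (.node (.leaf ⟨54,[50,54,50],33,0⟩) (.leaf ⟨52,[51,50,51,52,51,50,52,51,52,49,50,49,50,49,51],13,0⟩)) (.leaf ⟨52,[50,52,50,52,50,52,50],10,6⟩)))))) (.node (.node (.node (.node (.node (.node (.leaf ⟨52,[52],8,1⟩) (.leaf ⟨50,[49,51,52,51,50,51,52,51,50,52,51,52,49,50,49],13,13⟩)) (.node (.leaf ⟨52,[54,51,52,51,54,52,54,51],39,7⟩) (.leaf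 ⟨50,[53,50,51,50,53,50,51],20,3⟩))) (.node (.node (.leaf ⟨51,[52,51,50,51,52,51,52,51,52,50,52,51,52],12,9⟩) (.leaf ⟨49,[50,53,50,52,50,53,50,49,50,53,50,52,50,53,50],28,6⟩)) (.node (.leaf ⟨53,[54,51,52,54,53,54,53,52,51,54,53,52],40,3⟩) (.leaf ⟨50,[54,50,54],33,1⟩)))) (.node (.node (.node (.leaf ⟨51,[49,51,49],4,2⟩) (.leaf ⟨50,[52,50,52,50,52,50,52],10,3⟩)) (.node (.leaf ⟨52,[50,53,52,53,50,52,50,53,52,53,50],24,10⟩) (.leaf ⟨50,[52,50,52,50,52,50,52],10,7⟩))) (.node (.node (.leaf ⟨51,[52,51,52,51,52,51,52,51,52,51,52],11,3⟩) (.leaf ⟨49,[53,52,50,49,52,53,54,49,53,52,50,52,53,49,54],42,9⟩)) (.leaf ⟨50,[49,50,49,50,52,53,52,50,49,50,49,50,52,53,52],26,2⟩)))) (.node (.node (.node (.node (.leaf ⟨50,[52,50,52,50,52,50,52],10,5⟩) (.leaf ⟨49,[53,49,53],18,1⟩)) (.node (.leaf ⟨51,[52,54,53,54,53,52,51,54,53,52,53,54],40,5⟩) (.leaf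 ⟨53,[52,53,52,53,52,53,52],22,0⟩))) (.node (.node (.leaf ⟨51,[50,49,52,50,53,50,49,52,50,51,50,52,49,50,53,50,49,52,50],29,15⟩) (.leaf ⟨50,[49,52,50,53,50,49,52,50,51,50,52,49,50,53,50,49,52,50,51],29,16⟩)) (.node (.leaf ⟨50,[51,52,53,52,51,50,53,50,52,53,52,53,50,53],25,8⟩) (.leaf ⟨53,[54,53,54,53,54,53,54],38,1⟩)))) (.node (.node (.node (.leaf ⟨54,[52,50,52,54,52,50,52],36,4⟩) (.leaf ⟨53,[52,51,54,53,52,53,54,51,52,54,53,54],40,10⟩)) (.node (.leaf ⟨50,[53,50,53,50,53,50,53],21,3⟩) (.leaf ⟨54,[49,51,50,49,51,50,52,51,50,49,51,52,53,50,52,50,51,54,49,50,53,54,49,51,50,51,52,53],44,11⟩))) (.node (.node (.leaf ⟨51,[50,52,50,51,50,49,50,52,50,49,50,52,50,49,52,50,52,51,50,52,50],15,10⟩) (.leaf ⟨50,[51,49,50,51,49,50,51,49,50,49,51,50,49,51],7,6⟩)) (.leaf ⟨51,[50,51,50,51,50,51,50],5,2⟩))))) (.node (.node (.node (.node (.node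 (.leaf ⟨49,[52,49,52],9,3⟩) (.leaf ⟨51,[53,50,52,53,50,52,53,50,53,52,50,49,51,52,51,50,53,50,49,52],30,4⟩)) (.node (.leaf ⟨52,[50,52,50,52,50,52,50],10,4⟩) (.leaf ⟨51,[52,51,52,51,52,50,52,51,52,51,52,51,50],12,13⟩))) (.node (.node (.leaf ⟨51,[52,53,52,51,52,51,52,53,52,51,52],23,10⟩) (.leaf ⟨49,[52,49,52],9,1⟩)) (.node (.leaf ⟨52,[53,52,53,50,53,50,51,52,53,52,51,50,53,50],25,2⟩) (.leaf ⟨54,[49,54,49,54,49],35,0⟩)))) (.node (.node (.node (.leaf ⟨54,[49,54,49,54,49],35,4⟩) (.leaf ⟨52,[51,52,51,52,51,50,51,52,51,52,51,52,50],12,6⟩)) (.node (.leaf ⟨51,[52,54,51,52,51,54,52,54],39,6⟩) (.leaf ⟨50,[53,50,51,52,53,52,51,50,53,50,52,53,52,53],25,6⟩))) (.node (.node (.leaf ⟨51,[52,50,49,52,50,51,50,51,52,50,49,50,51,52,50,52,49,50,49,51,50,49],16,22⟩) (.leaf ⟨53,[50,53,50,53,50,53,50],21,0⟩)) (.leaf ⟨49,[52,50,52,53,52,53,50,53,52,49,50,52,53,52,49,50,53,50,49,50],31,17⟩))))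 (.node (.node (.node (.node (.leaf ⟨50,[54,50,54],33,3⟩) (.leaf ⟨51,[52,54,52,51,52,54,52],37,2⟩)) (.node (.leaf ⟨51,[54,51,54],34,1⟩) (.leaf ⟨53,[50,49,52,50,51,50,49,52,50,53,50,49,52,50,51,50,52,49,50],29,10⟩))) (.node (.node (.leaf ⟨50,[51,50,53,50,51,50,53],20,5⟩) (.leaf ⟨54,[53,54,53,54,53,54,53],38,2⟩)) (.node (.leaf ⟨54,[49,53,52,50,52,53,49,54,49,53,52,50,49,52,53],42,0⟩) (.leaf ⟨49,[50,49,50,49,50,49,50,49,50,49,50],2,5⟩)))) (.node (.node (.node (.leaf ⟨51,[52,54,52,51,52,54,52],37,6⟩) (.leaf ⟨52,[53,50,53,50,51,52,53,52,51,50,53,50,52,53],25,4⟩)) (.node (.leaf ⟨50,[51,52,51,52,51,52,50,52,51,52,51,52,51],12,12⟩) (.leaf ⟨49,[51,50,52,51,50,49,51,52,53,50,52,50,51,54,49,50,53,54,49,51,50,51,52,53,54,49,51,50],44,15⟩))) (.node (.node (.leaf ⟨54,[53,54,53,54,53,54,53],38,4⟩) (.leaf ⟨53,[52,53,52,53,52,53,52],22,6⟩))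 (.leaf ⟨52,[53,52,50,49,50,49,50,52,53,52,50,49,50,49,50],26,15⟩))))))) (.node (.node (.node (.node (.node (.node (.node (.leaf ⟨49,[49],0,1⟩) (.leaf ⟨51,[50,52,51,52,49,50,49,50,49,51,52,51,50,51,52],13,5⟩)) (.node (.leaf ⟨52,[54,51,52,54,51,52,51,54],39,4⟩) (.leaf ⟨49,[50,49,50,49,51,52,51,50,51,52,51,50,52,51,52],13,10⟩))) (.node (.node (.leaf ⟨52,[54,52,51,52,54,52,51],37,7⟩) (.leaf ⟨50,[49,50,49,53,50,49,53,50,49,50,53,49,50,53,49],27,12⟩)) (.node (.leaf ⟨53,[50,51,50,53,50,51,50],20,0⟩) (.leaf ⟨53,[54,49,51,50,49,51,50,52,51,50,49,51,52,53,50,52,50,51,54,49,50,53,54,49,51,50,51,52],44,10⟩)))) (.node (.node (.node (.leaf ⟨51,[54,51,54],34,3⟩) (.leaf ⟨50,[52,50,52,50,52,50,52],10,1⟩)) (.node (.leaf ⟨51,[52,51,54,52,54,51,52,54],39,0⟩) (.leaf ⟨52,[51,50,52,51,52,49,50,49,50,49,51,52,51,50,51],13,4⟩))) (.node (.node (.leaf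 ⟨51,[52,50,52,51,52,51,52,51,50,51,52,51,52],12,3⟩) (.leaf ⟨50,[52,54,52,50,52,54,52],36,2⟩)) (.leaf ⟨50,[52,53,52,50,49,50,49,50,52,53,52,50,49,50,49],26,6⟩)))) (.node (.node (.node (.node (.leaf ⟨49,[51,49,51],4,3⟩) (.leaf ⟨51,[49,51,49],4,0⟩)) (.node (.leaf ⟨54,[53,52,51,54,53,52,53,54,51,52,54,53],40,9⟩) (.leaf ⟨50,[53,52,53,50,52,50,53,52,53,50,52],24,11⟩))) (.node (.node (.leaf ⟨49,[50,52,50,49,50,51,52,51,52,51,50,49,50,52,50],14,2⟩) (.leaf ⟨51,[52,53,52,51,52,51,52,53,52,51,52],23,4⟩)) (.node (.leaf ⟨50,[53,50,52,53,52,53,50,53,50,51,52,53,52,51],25,14⟩) (.leaf ⟨52,[50,52,54,52,50,52,54],36,1⟩)))) (.node (.node (.node (.leaf ⟨50,[52,54,52,50,52,54,52],36,6⟩) (.leaf ⟨53,[52,53,54,51,52,54,53,54,53,52,51,54],40,1⟩)) (.node (.leaf ⟨50,[52,53,52,53,50,53,50,51,52,53,52,51,50,53],25,1⟩) (.leaf ⟨50,[49,51,50,52,51,50,49,51,52,53,50,52,50,51,54,49,50,53,54,49,51,50,51,52,53,54,49,51],44,14⟩)))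 (.node (.node (.leaf ⟨51,[50,49,50,51,50,49,50,51,50,49,50],6,8⟩) (.leaf ⟨52,[51,52,51,50,51,52,51,52,51,52,50,52,51],12,8⟩)) (.leaf ⟨49,[50,51,50,49,50,51,50,49,50,51,50],6,10⟩))))) (.node (.node (.node (.node (.node (.leaf ⟨51,[51],3,1⟩) (.leaf ⟨52,[50,51,50,49,50,52,50,49,50,52,50,49,52,50,52,51,50,52,50,51,50],15,12⟩)) (.node (.leaf ⟨52,[54,52,51,52,54,52,51],37,3⟩) (.leaf ⟨52,[51,50,51,52,51,52,51,52,50,52,51,52,51],12,10⟩))) (.node (.node (.leaf ⟨51,[52,51,52,51,52,51,52,51,52,51,52],11,7⟩) (.leaf ⟨52,[50,52,50,52,50,52,50],10,2⟩)) (.node (.leaf ⟨51,[52,51,52,53,52,51,52,51,52,53,52],23,8⟩) (.leaf ⟨50,[53,50,53,50,53,50,53],21,7⟩)))) (.node (.node (.node (.leaf ⟨49,[50,51,50,49,50,51,50,49,50,51,50],6,6⟩) (.leaf ⟨52,[50,53,52,53,50,52,50,53,52,53,50],24,4⟩)) (.node (.leaf ⟨54,[52,51,52,54,52,51,52],37,0⟩) (.leaf ⟨49,[50,52,50,49,50,52,50,49,50,51,52,51,52,51,50],14,14⟩)))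 (.node (.node (.leaf ⟨50,[51,50,52,50,51,50,49,50,52,50,49,50,52,50,49,52,50,52,51,50,52],15,9⟩) (.leaf ⟨51,[50,53,50,51,50,53,50],20,2⟩)) (.leaf ⟨50,[49,51,52,51,50,53,50,49,52,51,53,50,52,53,50,52,53,50,53,52],30,15⟩)))) (.node (.node (.node (.node (.leaf ⟨52,[53,52,53,52,53,52,53],22,5⟩) (.leaf ⟨51,[54,52,54,51,52,54,51,52],39,2⟩)) (.node (.leaf ⟨53,[52,54,53,54,52,54,52,53,52,54,51,53,52,51],41,13⟩) (.leaf ⟨53,[52,50,49,50,49,50,52,53,52,50,49,50,49,50,52],26,8⟩))) (.node (.node (.leaf ⟨50,[51,50,51,50,51,50,51],5,5⟩) (.leaf ⟨52,[54,53,54,53,52,51,54,53,52,53,54,51],40,6⟩)) (.node (.leaf ⟨52,[50,49,50,52,50,49,50,51,52,51,52,51,50,49,50],14,0⟩) (.leaf ⟨50,[52,50,53,52,53,50,52,50,53,52,53],24,3⟩)))) (.node (.node (.node (.leaf ⟨52,[49,52,49],9,2⟩) (.leaf ⟨52,[51,50,53,50,52,53,52,53,50,53,50,51,52,53],25,12⟩)) (.node (.leaf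 ⟨54,[49,53,52,50,49,52,53,54,49,53,52,50,52,53,49],42,8⟩) (.leaf ⟨54,[49,51,50,51,52,53,54,49,51,50,49,51,50,52,51,50,49,51,52,53,50,52,50,51,54,49,50,53],44,4⟩))) (.node (.node (.leaf ⟨53,[54,53,54,53,54,53,54],38,5⟩) (.leaf ⟨53,[50,53,50,53,50,53,50],21,6⟩)) (.leaf ⟨53,[54,53,52,51,54,53,52,53,54,51,52,54],40,8⟩)))))) (.node (.node (.node (.node (.node (.node (.leaf ⟨53,[53],17,1⟩) (.leaf ⟨49,[54,49,54,49,54],35,5⟩)) (.node (.leaf ⟨52,[51,54,52,54,51,52,54,51],39,1⟩) (.leaf ⟨50,[51,50,53,50,51,50,53],20,1⟩))) (.node (.node (.leaf ⟨51,[52,51,52,50,52,51,52,51,52,51,50,51,52],12,1⟩) (.leaf ⟨53,[52,53,50,52,50,53,52,53,50,52,50],24,6⟩)) (.node (.leaf ⟨53,[52,53,52,53,52,53,52],22,2⟩) (.leaf ⟨54,[49,54,49,54,49],35,2⟩)))) (.node (.node (.node (.leaf ⟨51,[50,53,50,51,50,53,50],20,6⟩) (.leaf ⟨53,[52,53,50,52,50,53,52,53,50,52,50],24,0⟩))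 (.node (.leaf ⟨52,[53,50,52,50,53,52,53,50,52,50,53],24,7⟩) (.leaf ⟨50,[49,52,50,52,51,50,52,50,51,50,52,50,51,50,49,50,52,50,49,50,52],15,1⟩))) (.node (.node (.leaf ⟨49,[50,49,53,50,49,53,50,49,50,53,49,50,53,49,50],27,13⟩) (.leaf ⟨51,[50,49,50,51,50,49,50,51,50,49,50],6,4⟩)) (.leaf ⟨49,[50,53,49,50,53,49,50,49,50,49,53,50,49,53,50],27,5⟩)))) (.node (.node (.node (.node (.leaf ⟨50,[53,50,51,50,53,50,51],20,7⟩) (.leaf ⟨52,[49,52,49],9,0⟩)) (.node (.leaf ⟨51,[54,53,52,53,54,51,52,54,53,54,53,52],40,12⟩) (.leaf ⟨53,[50,51,52,53,52,51,50,53,50,52,53,52,53,50],25,7⟩))) (.node (.node (.leaf ⟨50,[52,51,52,49,50,49,50,49,51,52,51,50,51,52,51],13,6⟩) (.leaf ⟨54,[51,52,51,54,52,54,51,52],39,8⟩)) (.node (.leaf ⟨50,[51,50,51,50,51,50,51],5,3⟩) (.leaf ⟨49,[54,49,54,49,54],35,1⟩)))) (.node (.node (.node (.leaf ⟨52,[50,52,54,52,50,52,54],36,5⟩)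 (.leaf ⟨52,[51,54,53,52,53,54,51,52,54,53,54,53],40,11⟩)) (.node (.leaf ⟨53,[52,51,50,53,50,52,53,52,53,50,53,50,51,52],25,11⟩) (.leaf ⟨49,[51,50,49,51,50,52,51,50,49,51,52,53,50,52,50,51,54,49,50,53,54,49,51,50,51,52,53,54],44,12⟩))) (.node (.node (.leaf ⟨50,[51,52,50,52,49,50,49,51,50,49,51,52,50,49,52,50,51,50,51,52,50,49],16,11⟩) (.leaf ⟨50,[52,51,52,51,52,51,50,51,52,51,52,51,52],12,5⟩)) (.leaf ⟨52,[51,52,54,52,51,52,54],37,1⟩))))) (.node (.node (.node (.node (.node (.leaf ⟨49,[53,49,53],18,3⟩) (.leaf ⟨49,[51,49,51],4,1⟩)) (.node (.leaf ⟨50,[49,50,49,51,52,51,50,51,52,51,50,52,51,52,49],13,11⟩) (.leaf ⟨52,[51,52,51,52,51,52,51,52,51,52,51],11,4⟩))) (.node (.node (.leaf ⟨52,[51,52,50,52,51,52,51,52,51,50,51,52,51],12,2⟩) (.leaf ⟨51,[50,49,50,51,50,49,50,51,50,49,50],6,0⟩)) (.node (.leaf ⟨50,[53,52,53,50,52,50,53,52,53,50,52],24,5⟩)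 (.leaf ⟨54,[53,54,53,54,53,54,53],38,6⟩)))) (.node (.node (.node (.leaf ⟨54,[50,54,50],33,2⟩) (.leaf ⟨52,[50,52,51,52,51,52,51,50,51,52,51,52,51],12,4⟩)) (.node (.leaf ⟨52,[53,54,51,52,54,53,54,53,52,51,54,53],40,2⟩) (.leaf ⟨50,[53,54,52,53,49,54,50,49,51,50,51,52,51,50,49,51,50,54,49,53,52,54,53],43,6⟩))) (.node (.node (.leaf ⟨54,[51,54,51],34,0⟩) (.leaf ⟨52,[51,52,51,52,50,52,51,52,51,52,51,50,51],12,0⟩)) (.leaf ⟨49,[50,49,52,50,52,53,52,53,50,53,52,49,50,52,53,52,49,50,53,50],31,15⟩)))) (.node (.node (.node (.node (.leaf ⟨50,[49,50,53,50,52,50,53,50,49,50,53,50,52,50,53],28,13⟩) (.leaf ⟨54,[52,50,52,54,52,50,52],36,0⟩)) (.node (.leaf ⟨53,[49,53,49],18,2⟩) (.leaf ⟨54,[53,52,53,54,51,52,54,53,54,53,52,51],40,0⟩))) (.node (.node (.leaf ⟨51,[52,51,50,52,51,52,49,50,49,50,49,51,52,51,50],13,3⟩) (.leaf ⟨50,[49,50,52,50,49,50,52,50,49,50,51,52,51,52,51],14,13⟩))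 (.node (.leaf ⟨49,[50,49,50,49,50,49,50,49,50,49,50],2,7⟩) (.leaf ⟨53,[50,52,50,53,52,53,50,52,50,53,52],24,2⟩)))) (.node (.node (.node (.leaf ⟨54,[52,51,52,54,52,51,52],37,4⟩) (.leaf ⟨50,[53,49,50,49,50,49,53,50,49,53,50,49,50,53,49],27,9⟩)) (.node (.leaf ⟨52,[53,50,52,50,53,52,53,50,52,50,53],24,1⟩) (.leaf ⟨50,[52,50,51,54,49,50,53,54,49,51,50,51,52,53,54,49,51,50,49,51,50,52,51,50,49,51,52,53],44,25⟩))) (.node (.node (.leaf ⟨53,[52,53,52,53,52,53,52],22,4⟩) (.leaf ⟨51,[52,49,50,49,50,49,51,52,51,50,51,52,51,50,52],13,8⟩)) (.leaf ⟨50,[49,50,52,50,49,50,51,52,51,52,51,50,49,50,52],14,1⟩))))))))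
noncomputable def tc1 : TCL := ⟨[49,50,51,52,53,54], [49,50,51,52,53], 693, 32, 0x7fff, 15, 0xff,
  fun a x => look 0xffffffff (nth tc1T 0 a) x, fun x => look 0xffffffff tc1d x, tc1r⟩
noncomputable def tc2T : List ℕ := [0,0,0,0,0,0,0,0,0,0,0,0,0,0,0,0,0,0,0,0,0,0,0,0,0,0,0,0,0,0,0,0,0,0,0,0,0,0,0,0,0,0,0,0,0,0,0,0,0,tc2t49,tc2t50,tc2t51,tc2t52,tc2t53]
noncomputable def tc2r : Tr Rule := (.node (.node (.node (.node (.node (.node (.node (.node (.leaf ⟨53,[53],17,1⟩) (.leaf ⟨49,[51,52,51,50,51,52,51,50,52,51,52,49,50,49,50],13,14⟩)) (.node (.leaf ⟨51,[50,51,50,51,50,51,50],5,4⟩) (.leaf ⟨53,[52,49,50,52,53,52,49,50,53,50,49,50,49,52,50,52,53,52,53,50],31,4⟩))) (.node (.node (.leaf ⟨51,[52,51,52,50,52,51,52,51,52,51,50,51,52],12,1⟩) (.leaf ⟨52,[50,49,51,52,51,50,53,50,49,52,51,53,50,52,53,50,52,53,50,53],30,14⟩)) (.leaf ⟨53,[50,51,50,53,50,51,50],20,4⟩)))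 (.node (.node (.node (.leaf ⟨51,[49,51,49],4,2⟩) (.leaf ⟨53,[52,53,50,53,50,51,52,53,52,51,50,53,50,52],25,3⟩)) (.leaf ⟨49,[50,49,50,49,50,49,50,49,50,49,50],2,3⟩)) (.node (.node (.leaf ⟨53,[51,53,51],19,0⟩) (.leaf ⟨50,[53,50,51,50,53,50,51],20,7⟩)) (.leaf ⟨49,[50,49,51,50,49,51,50,51,49,50,51,49,50,51],7,14⟩)))) (.node (.node (.node (.node (.leaf ⟨50,[51,50,51,50,51,50,51],5,5⟩) (.leaf ⟨52,[50,52,50,52,50,52,50],10,6⟩)) (.node (.leaf ⟨50,[49,50,49,50,52,53,52,50,49,50,49,50,52,53,52],26,10⟩) (.leaf ⟨53,[52,53,50,53,52,49,50,52,53,52,49,50,53,50,49,50,49,52,50,52],31,0⟩))) (.node (.node (.leaf ⟨50,[51,52,53,52,51,50,53,50,52,53,52,53,50,53],25,8⟩) (.leaf ⟨53,[50,49,52,51,53,50,52,53,50,52,53,50,53,52,50,49,51,52,51,50],30,0⟩)) (.leaf ⟨51,[50,52,49,50,53,50,49,52,50,51,50,49,52,50,53,50,49,52,50],29,5⟩))) (.node (.node (.node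 (.leaf ⟨52,[51,52,51,50,51,52,51,52,51,52,50,52,51],12,8⟩) (.leaf ⟨51,[50,52,50,51,50,52,50,51,50,49,50,52,50,49,50,52,50,49,52,50,52],15,6⟩)) (.leaf ⟨50,[52,50,53,50,49,50,53,50,52,50,53,50,49,50,53],28,9⟩)) (.node (.node (.leaf ⟨49,[50,52,53,52,50,49,50,49,50,52,53,52,50,49,50],26,5⟩) (.leaf ⟨50,[52,53,52,53,50,53,52,49,50,52,53,52,49,50,53,50,49,50,49,52],31,19⟩)) (.leaf ⟨52,[49,50,49,50,49,51,52,51,50,51,52,51,50,52,51],13,9⟩))))) (.node (.node (.node (.node (.node (.leaf ⟨51,[51],3,1⟩) (.leaf ⟨50,[53,50,53,50,53,50,53],21,3⟩)) (.node (.leaf ⟨52,[51,52,51,52,53,52,51,52,51,52,53],23,7⟩) (.leaf ⟨52,[50,52,53,52,53,50,53,52,49,50,52,53,52,49,50,53,50,49,50,49],31,18⟩))) (.node (.node (.leaf ⟨50,[52,50,53,52,53,50,52,50,53,52,53],24,9⟩) (.leaf ⟨50,[52,53,50,53,52,50,49,51,52,51,50,53,50,49,52,51,53,50,52,53],30,9⟩)) (.leaf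 ⟨52,[50,49,50,52,50,49,50,51,52,51,52,51,50,49,50],14,0⟩))) (.node (.node (.node (.leaf ⟨50,[53,50,53,50,53,50,53],21,5⟩) (.leaf ⟨53,[52,50,49,50,49,50,52,53,52,50,49,50,49,50,52],26,0⟩)) (.leaf ⟨49,[50,49,53,50,49,53,50,49,50,53,49,50,53,49,50],27,13⟩)) (.node (.node (.leaf ⟨50,[52,50,52,50,52,50,52],10,3⟩) (.leaf ⟨50,[52,53,52,49,50,53,50,49,50,49,52,50,52,53,52,53,50,53,52,49],31,7⟩)) (.leaf ⟨50,[49,50,51,50,49,50,51,50,49,50,51],6,5⟩)))) (.node (.node (.node (.node (.leaf ⟨49,[50,51,50,49,50,51,50,49,50,51,50],6,6⟩) (.leaf ⟨50,[49,50,51,52,51,52,51,50,49,50,52,50,49,50,52],14,5⟩)) (.leaf ⟨51,[50,51,52,51,50,52,51,52,49,50,49,50,49,51,52],13,1⟩)) (.node (.node (.leaf ⟨51,[50,53,50,52,53,52,53,50,53,50,51,52,53,52],25,13⟩) (.leaf ⟨51,[50,51,50,51,50,51,50],5,2⟩)) (.leaf ⟨52,[51,50,51,52,51,50,52,51,52,49,50,49,50,49,51],13,0⟩)))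 (.node (.node (.node (.leaf ⟨49,[50,49,51,52,51,50,51,52,51,50,52,51,52,49,50],13,12⟩) (.leaf ⟨53,[50,53,52,50,49,51,52,51,50,53,50,49,52,51,53,50,52,53,50,52],30,11⟩)) (.leaf ⟨52,[50,53,52,53,50,52,50,53,52,53,50],24,10⟩)) (.node (.node (.leaf ⟨50,[49,50,49,50,49,50,49,50,49,50,49],2,8⟩) (.leaf ⟨50,[53,52,49,50,52,53,52,49,50,53,50,49,50,49,52,50,52,53,52,53],31,3⟩)) (.leaf ⟨51,[53,51,53],19,1⟩)))))) (.node (.node (.node (.node (.node (.node (.leaf ⟨52,[52],8,1⟩) (.leaf ⟨52,[49,52,49],9,0⟩)) (.node (.leaf ⟨53,[52,51,50,53,50,52,53,52,53,50,53,50,51,52],25,11⟩) (.leaf ⟨50,[49,50,49,52,50,52,53,52,53,50,53,52,49,50,52,53,52,49,50,53],31,14⟩))) (.node (.node (.leaf ⟨52,[50,53,52,53,50,52,50,53,52,53,50],24,4⟩) (.leaf ⟨53,[50,52,53,50,52,53,50,53,52,50,49,51,52,51,50,53,50,49,52,51],30,5⟩)) (.leaf ⟨51,[50,49,50,51,50,49,50,51,50,49,50],6,8⟩)))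 (.node (.node (.node (.leaf ⟨50,[51,50,51,50,51,50,51],5,7⟩) (.leaf ⟨50,[49,50,53,49,50,53,49,50,49,50,49,53,50,49,53],27,4⟩)) (.leaf ⟨49,[50,53,49,50,53,49,50,49,50,49,53,50,49,53,50],27,5⟩)) (.node (.node (.leaf ⟨53,[51,53,51],19,2⟩) (.leaf ⟨50,[51,50,49,52,50,53,50,49,52,50,51,50,52,49,50,53,50,49,52],29,14⟩)) (.leaf ⟨49,[52,50,51,50,49,52,50,53,50,49,52,50,51,50,52,49,50,53,50],29,12⟩)))) (.node (.node (.node (.node (.leaf ⟨49,[50,49,50,49,50,49,50,49,50,49,50],2,7⟩) (.leaf ⟨52,[53,52,53,52,53,52,53],22,3⟩)) (.leaf ⟨51,[52,50,52,51,52,51,52,51,50,51,52,51,52],12,3⟩)) (.node (.node (.leaf ⟨51,[52,53,52,51,50,53,50,52,53,52,53,50,53,50],25,9⟩) (.leaf ⟨51,[50,53,50,51,50,53,50],20,2⟩)) (.leaf ⟨50,[51,49,50,51,49,50,49,51,50,49,51,50,51,49],7,9⟩))) (.node (.node (.node (.leaf ⟨52,[49,52,49],9,2⟩) (.leaf ⟨50,[53,52,50,49,51,52,51,50,53,50,49,52,51,53,50,52,53,50,52,53],30,12⟩))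 (.leaf ⟨49,[50,53,50,52,50,53,50,49,50,53,50,52,50,53,50],28,14⟩)) (.node (.node (.leaf ⟨49,[50,52,50,49,50,52,50,49,50,51,52,51,52,51,50],14,14⟩) (.leaf ⟨53,[52,49,50,53,50,49,50,49,52,50,52,53,52,53,50,53,52,49,50,52],31,9⟩)) (.leaf ⟨49,[52,50,53,50,49,52,50,51,50,52,49,50,53,50,49,52,50,51,50],29,17⟩))))) (.node (.node (.node (.node (.node (.leaf ⟨49,[51,49,51],4,3⟩) (.leaf ⟨51,[52,49,50,49,50,49,51,52,51,50,51,52,51,50,52],13,8⟩)) (.node (.leaf ⟨51,[52,51,50,49,50,52,50,49,50,52,50,49,50,51,52],14,10⟩) (.leaf ⟨53,[50,53,52,49,50,52,53,52,49,50,53,50,49,50,49,52,50,52,53,52],31,2⟩))) (.node (.node (.leaf ⟨53,[50,52,50,53,52,53,50,52,50,53,52],24,8⟩) (.leaf ⟨52,[51,50,53,50,49,52,51,53,50,52,53,50,52,53,50,53,52,50,49,51],30,18⟩)) (.leaf ⟨53,[49,50,49,50,49,53,50,49,53,50,49,50,53,49,50],27,10⟩))) (.node (.node (.node (.leaf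 ⟨52,[51,52,53,52,51,52,51,52,53,52,51],23,9⟩) (.leaf ⟨52,[53,52,51,50,53,50,52,53,52,53,50,53,50,51],25,10⟩)) (.leaf ⟨52,[50,53,50,49,50,53,50,52,50,53,50,49,50,53,50],28,10⟩)) (.node (.node (.leaf ⟨50,[49,50,52,53,52,50,49,50,49,50,52,53,52,50,49],26,12⟩) (.leaf ⟨49,[52,50,52,53,52,53,50,53,52,49,50,52,53,52,49,50,53,50,49,50],31,17⟩)) (.leaf ⟨51,[52,53,52,51,52,51,52,53,52,51,52],23,4⟩)))) (.node (.node (.node (.node (.leaf ⟨50,[51,50,53,50,51,50,53],20,5⟩) (.leaf ⟨50,[52,50,52,50,52,50,52],10,7⟩)) (.leaf ⟨49,[51,49,51],4,1⟩)) (.node (.node (.leaf ⟨50,[52,53,52,53,50,53,50,51,52,53,52,51,50,53],25,1⟩) (.leaf ⟨50,[53,50,49,52,50,51,50,52,49,50,53,50,49,52,50,51,50,49,52],29,19⟩)) (.leaf ⟨52,[51,50,51,52,51,52,51,52,50,52,51,52,51],12,10⟩))) (.node (.node (.node (.leaf ⟨52,[50,49,50,51,52,51,52,51,50,49,50,52,50,49,50],14,4⟩)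 (.leaf ⟨52,[53,50,53,52,50,49,51,52,51,50,53,50,49,52,51,53,50,52,53,50],30,10⟩)) (.leaf ⟨50,[49,50,49,50,52,53,52,50,49,50,49,50,52,53,52],26,2⟩)) (.node (.node (.leaf ⟨50,[51,50,51,50,51,50,51],5,3⟩) (.leaf ⟨52,[49,50,53,50,49,50,49,52,50,52,53,52,53,50,53,52,49,50,52,53],31,10⟩)) (.leaf ⟨52,[53,52,53,52,53,52,53],22,1⟩))))))) (.node (.node (.node (.node (.node (.node (.node (.leaf ⟨50,[50],1,1⟩) (.leaf ⟨49,[50,49,50,49,51,52,51,50,51,52,51,50,52,51,52],13,10⟩)) (.node (.leaf ⟨52,[51,52,51,52,50,52,51,52,51,52,51,50,51],12,0⟩) (.leaf ⟨49,[50,49,52,50,52,53,52,53,50,53,52,49,50,52,53,52,49,50,53,50],31,15⟩))) (.node (.node (.leaf ⟨52,[53,50,52,50,53,52,53,50,52,50,53],24,7⟩) (.leaf ⟨53,[52,50,49,51,52,51,50,53,50,49,52,51,53,50,52,53,50,52,53,50],30,13⟩)) (.leaf ⟨53,[50,53,50,53,50,53,50],21,4⟩))) (.node (.node (.node (.leaf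 ⟨51,[50,51,50,51,50,51,50],5,0⟩) (.leaf ⟨53,[52,50,49,50,49,50,52,53,52,50,49,50,49,50,52],26,8⟩)) (.leaf ⟨50,[53,49,50,49,50,49,53,50,49,53,50,49,50,53,49],27,9⟩)) (.node (.node (.leaf ⟨53,[49,53,49],18,2⟩) (.leaf ⟨50,[49,50,52,53,52,50,49,50,49,50,52,53,52,50,49],26,4⟩)) (.leaf ⟨50,[51,50,49,50,51,50,49,50,51,50,49],6,11⟩)))) (.node (.node (.node (.node (.leaf ⟨49,[53,49,53],18,3⟩) (.leaf ⟨52,[53,52,53,50,53,50,51,52,53,52,51,50,53,50],25,2⟩)) (.leaf ⟨52,[51,50,52,51,52,49,50,49,50,49,51,52,51,50,51],13,4⟩)) (.node (.node (.leaf ⟨50,[53,50,51,52,53,52,51,50,53,50,52,53,52,53],25,6⟩) (.leaf ⟨50,[49,52,51,53,50,52,53,50,52,53,50,53,52,50,49,51,52,51,50,53],30,1⟩)) (.leaf ⟨51,[52,51,50,52,51,52,49,50,49,50,49,51,52,51,50],13,3⟩))) (.node (.node (.node (.leaf ⟨52,[51,52,50,52,51,52,51,52,51,50,51,52,51],12,2⟩) (.leaf ⟨51,[50,49,50,52,50,49,50,52,50,49,52,50,52,51,50,52,50,51,50,52,50],15,14⟩))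 (.leaf ⟨50,[53,50,49,50,53,50,52,50,53,50,49,50,53,50,52],28,11⟩)) (.node (.node (.leaf ⟨50,[52,51,52,49,50,49,50,49,51,52,51,50,51,52,51],13,6⟩) (.leaf ⟨50,[49,52,50,52,53,52,53,50,53,52,49,50,52,53,52,49,50,53,50,49],31,16⟩)) (.leaf ⟨52,[53,52,51,52,51,52,53,52,51,52,51],23,5⟩))))) (.node (.node (.node (.node (.node (.leaf ⟨49,[52,49,52],9,3⟩) (.leaf ⟨49,[53,49,53],18,1⟩)) (.node (.leaf ⟨49,[50,52,53,52,50,49,50,49,50,52,53,52,50,49,50],26,13⟩) (.leaf ⟨52,[53,50,53,52,49,50,52,53,52,49,50,53,50,49,50,49,52,50,52,53],31,1⟩))) (.node (.node (.leaf ⟨53,[52,53,50,52,50,53,52,53,50,52,50],24,6⟩) (.leaf ⟨50,[53,50,49,52,51,53,50,52,53,50,52,53,50,53,52,50,49,51,52,51],30,20⟩)) (.leaf ⟨53,[49,53,49],18,0⟩))) (.node (.node (.node (.leaf ⟨52,[53,52,53,52,53,52,53],22,5⟩) (.leaf ⟨50,[52,50,53,52,53,50,52,50,53,52,53],24,3⟩)) (.leaf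 ⟨50,[51,50,53,50,51,50,53],20,1⟩)) (.node (.node (.leaf ⟨51,[52,51,52,53,52,51,52,51,52,53,52],23,2⟩) (.leaf ⟨49,[50,52,53,52,49,50,53,50,49,50,49,52,50,52,53,52,53,50,53,52],31,6⟩)) (.leaf ⟨52,[53,50,52,50,53,52,53,50,52,50,53],24,1⟩)))) (.node (.node (.node (.node (.leaf ⟨51,[50,53,50,51,50,53,50],20,6⟩) (.leaf ⟨50,[53,52,53,50,52,50,53,52,53,50,52],24,11⟩)) (.leaf ⟨52,[51,52,49,50,49,50,49,51,52,51,50,51,52,51,50],13,7⟩)) (.node (.node (.leaf ⟨50,[53,50,52,53,52,53,50,53,50,51,52,53,52,51],25,14⟩) (.leaf ⟨50,[49,50,49,50,49,50,49,50,49,50,49],2,10⟩)) (.leaf ⟨50,[51,50,49,50,51,50,49,50,51,50,49],6,3⟩))) (.node (.node (.node (.leaf ⟨49,[50,52,50,49,50,51,52,51,52,51,50,49,50,52,50],14,2⟩) (.leaf ⟨50,[52,53,50,52,53,50,53,52,50,49,51,52,51,50,53,50,49,52,51,53],30,6⟩)) (.leaf ⟨50,[52,53,52,50,49,50,49,50,52,53,52,50,49,50,49],26,6⟩))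 (.node (.node (.leaf ⟨52,[50,51,50,52,50,51,50,49,50,52,50,49,50,52,50,49,52,50,52,51,50],15,8⟩) (.leaf ⟨49,[50,53,50,49,50,49,52,50,52,53,52,53,50,53,52,49,50,52,53,52],31,11⟩)) (.leaf ⟨53,[50,51,50,53,50,51,50],20,0⟩)))))) (.node (.node (.node (.node (.node (.node (.leaf ⟨49,[49],0,1⟩) (.leaf ⟨49,[50,49,50,52,53,52,50,49,50,49,50,52,53,52,50],26,3⟩)) (.node (.leaf ⟨53,[52,53,52,53,52,53,52],22,4⟩) (.leaf ⟨50,[53,50,49,50,49,52,50,52,53,52,53,50,53,52,49,50,52,53,52,49],31,12⟩))) (.node (.node (.leaf ⟨50,[53,52,53,50,52,50,53,52,53,50,52],24,5⟩) (.leaf ⟨50,[49,51,52,51,50,53,50,49,52,51,53,50,52,53,50,52,53,50,53,52],30,15⟩)) (.leaf ⟨53,[50,53,50,53,50,53,50],21,2⟩))) (.node (.node (.node (.leaf ⟨50,[51,49,50,49,51,50,49,51,50,51,49,50,51,49],7,12⟩) (.leaf ⟨51,[50,51,52,51,52,51,52,50,52,51,52,51,52],12,11⟩)) (.leaf ⟨49,[50,53,49,50,49,50,49,53,50,49,53,50,49,50,53],27,8⟩))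 (.node (.node (.leaf ⟨51,[50,51,50,51,50,51,50],5,6⟩) (.leaf ⟨53,[52,53,52,53,52,53,52],22,0⟩)) (.leaf ⟨49,[50,53,50,49,52,50,51,50,49,52,50,53,50,49,52,50,51,50,52],29,8⟩)))) (.node (.node (.node (.node (.leaf ⟨51,[53,51,53],19,3⟩) (.leaf ⟨52,[51,52,53,52,51,52,51,52,53,52,51],23,3⟩)) (.leaf ⟨50,[49,50,49,51,52,51,50,51,52,51,50,52,51,52,49],13,11⟩)) (.node (.node (.leaf ⟨53,[50,51,52,53,52,51,50,53,50,52,53,52,53,50],25,7⟩) (.leaf ⟨53,[50,53,50,53,50,53,50],21,6⟩)) (.leaf ⟨50,[49,51,50,49,51,50,51,49,50,51,49,50,51,49],7,0⟩))) (.node (.node (.node (.leaf ⟨52,[50,52,50,52,50,52,50],10,4⟩) (.leaf ⟨52,[53,50,52,53,50,53,52,50,49,51,52,51,50,53,50,49,52,51,53,50],30,7⟩)) (.leaf ⟨52,[50,52,50,52,50,52,50],10,0⟩)) (.node (.node (.leaf ⟨49,[50,51,52,51,52,51,50,49,50,52,50,49,50,52,50],14,6⟩) (.leaf ⟨52,[53,52,49,50,53,50,49,50,49,52,50,52,53,52,53,50,53,52,49,50],31,8⟩))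 (.leaf ⟨51,[49,51,49],4,0⟩))))) (.node (.node (.node (.node (.node (.leaf ⟨50,[52,50,52,50,52,50,52],10,5⟩) (.leaf ⟨51,[50,52,51,52,49,50,49,50,49,51,52,51,50,51,52],13,5⟩)) (.node (.leaf ⟨50,[52,53,52,50,49,50,49,50,52,53,52,50,49,50,49],26,14⟩) (.leaf ⟨52,[53,52,53,50,53,52,49,50,52,53,52,49,50,53,50,49,50,49,52,50],31,20⟩))) (.node (.node (.leaf ⟨51,[50,52,50,51,50,49,50,52,50,49,50,52,50,49,52,50,52,51,50,52,50],15,10⟩) (.leaf ⟨52,[51,53,50,52,53,50,52,53,50,53,52,50,49,51,52,51,50,53,50,49],30,3⟩)) (.leaf ⟨51,[50,49,52,50,53,50,49,52,50,51,50,52,49,50,53,50,49,52,50],29,15⟩))) (.node (.node (.node (.leaf ⟨51,[52,51,52,53,52,51,52,51,52,53,52],23,8⟩) (.leaf ⟨50,[52,50,49,50,52,50,49,50,51,52,51,52,51,50,49],14,15⟩)) (.leaf ⟨49,[50,53,50,52,50,53,50,49,50,53,50,52,50,53,50],28,6⟩)) (.node (.node (.leaf ⟨49,[50,49,50,52,53,52,50,49,50,49,50,52,53,52,50],26,11⟩)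 (.leaf ⟨53,[50,49,50,49,52,50,52,53,52,53,50,53,52,49,50,52,53,52,49,50],31,13⟩)) (.leaf ⟨50,[49,51,52,51,50,51,52,51,50,52,51,52,49,50,49],13,13⟩)))) (.node (.node (.node (.node (.leaf ⟨50,[53,50,51,50,53,50,51],20,3⟩) (.leaf ⟨50,[49,50,49,53,50,49,53,50,49,50,53,49,50,53,49],27,12⟩)) (.leaf ⟨52,[50,52,50,52,50,52,50],10,2⟩)) (.node (.node (.leaf ⟨53,[50,52,53,52,53,50,53,50,51,52,53,52,51,50],25,0⟩) (.leaf ⟨50,[51,50,49,50,51,50,49,50,51,50,49],6,7⟩)) (.leaf ⟨49,[50,51,49,50,49,51,50,49,51,50,51,49,50,51],7,11⟩))) (.node (.node (.node (.leaf ⟨52,[50,51,50,49,50,52,50,49,50,52,50,49,52,50,52,51,50,52,50,51,50],15,12⟩) (.leaf ⟨53,[50,52,53,50,53,52,50,49,51,52,51,50,53,50,49,52,51,53,50,52],30,8⟩)) (.leaf ⟨50,[49,53,50,49,50,53,49,50,53,49,50,49,50,49,53],27,1⟩)) (.node (.node (.leaf ⟨51,[52,51,52,51,52,50,52,51,52,51,52,51,50],12,13⟩)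 (.leaf ⟨52,[49,50,52,53,52,49,50,53,50,49,50,49,52,50,52,53,52,53,50,53],31,5⟩)) (.leaf ⟨53,[52,53,52,53,52,53,52],22,6⟩))))))))
noncomputable def tc2 : TCL := ⟨[49,50,51,52,53], [49,50,51,52], 512, 28, 0x3fff, 14, 0xff,
  fun a x => look 0xfffffff (nth tc2T 0 a) x, fun x => look 0xfffffff tc2d x, tc2r⟩
noncomputable def tc3T : List ℕ := [0,0,0,0,0,0,0,0,0,0,0,0,0,0,0,0,0,0,0,0,0,0,0,0,0,0,0,0,0,0,0,0,0,0,0,0,0,0,0,0,0,0,0,0,0,0,0,0,0,tc3t49,tc3t50,tc3t51,tc3t52]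
noncomputable def tc3r : Tr Rule := (.node (.node (.node (.node (.node (.node (.node (.leaf ⟨52,[52],8,1⟩) (.leaf ⟨51,[50,51,50,51,50,51,50],5,0⟩)) (.node (.leaf ⟨52,[51,52,50,52,51,52,51,52,51,50,51,52,51],12,2⟩) (.leaf ⟨52,[49,50,49,51,50,49,51,52,50,49,52,50,51,50,51,52,50,49,50,51,52,50],16,15⟩))) (.node (.node (.leaf ⟨50,[52,51,52,51,52,51,50,51,52,51,52,51,52],12,5⟩) (.leaf ⟨50,[52,50,49,50,52,50,49,50,51,52,51,52,51,50,49],14,15⟩)) (.node (.leaf ⟨50,[52,50,49,50,51,52,51,52,51,50,49,50,52,50,49],14,3⟩) (.leaf ⟨51,[52,50,49,52,50,51,50,51,52,50,49,50,51,52,50,52,49,50,49,51,50,49],16,22⟩)))) (.node (.node (.node (.leaf ⟨51,[50,49,50,51,50,49,50,51,50,49,50],6,8⟩) (.leaf ⟨52,[50,49,50,51,52,51,52,51,50,49,50,52,50,49,50],14,4⟩)) (.node (.leaf ⟨49,[50,49,50,49,50,49,50,49,50,49,50],2,11⟩) (.leaf ⟨49,[51,50,49,51,52,50,49,52,50,51,50,51,52,50,49,50,51,52,50,52,49,50],16,18⟩)))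 (.node (.node (.leaf ⟨51,[52,51,50,52,51,52,49,50,49,50,49,51,52,51,50],13,3⟩) (.leaf ⟨52,[50,51,50,52,50,51,50,49,50,52,50,49,50,52,50,49,52,50,52,51,50],15,8⟩)) (.leaf ⟨49,[51,52,51,50,51,52,51,50,52,51,52,49,50,49,50],13,14⟩)))) (.node (.node (.node (.node (.leaf ⟨49,[51,49,51],4,3⟩) (.leaf ⟨50,[51,50,51,50,51,50,51],5,3⟩)) (.node (.leaf ⟨49,[50,51,49,50,51,49,50,49,51,50,49,51,50,51],7,8⟩) (.leaf ⟨51,[52,50,49,50,51,52,50,52,49,50,49,51,50,49,51,52,50,49,52,50,51,50],16,7⟩))) (.node (.node (.leaf ⟨50,[51,52,51,52,51,52,50,52,51,52,51,52,51],12,12⟩) (.leaf ⟨52,[50,52,50,52,50,52,50],10,6⟩)) (.leaf ⟨52,[49,52,49],9,0⟩))) (.node (.node (.node (.leaf ⟨50,[51,50,49,50,51,50,49,50,51,50,49],6,7⟩) (.leaf ⟨51,[50,51,50,51,50,51,50],5,2⟩)) (.node (.leaf ⟨51,[52,51,50,49,50,52,50,49,50,52,50,49,50,51,52],14,10⟩) (.leaf ⟨51,[50,51,52,50,49,50,51,52,50,52,49,50,49,51,50,49,51,52,50,49,52,50],16,5⟩)))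 (.node (.node (.leaf ⟨49,[50,51,50,49,50,51,50,49,50,51,50],6,10⟩) (.leaf ⟨52,[50,52,51,50,52,50,51,50,52,50,51,50,49,50,52,50,49,50,52,50,49],15,3⟩)) (.leaf ⟨50,[52,50,52,50,52,50,52],10,3⟩))))) (.node (.node (.node (.node (.node (.leaf ⟨51,[51],3,1⟩) (.leaf ⟨51,[52,51,52,51,52,50,52,51,52,51,52,51,50],12,13⟩)) (.node (.leaf ⟨52,[51,52,51,50,51,52,51,52,51,52,50,52,51],12,8⟩) (.leaf ⟨49,[50,49,51,50,49,51,52,50,49,52,50,51,50,51,52,50,49,50,51,52,50,52],16,16⟩))) (.node (.node (.leaf ⟨51,[52,50,52,51,52,51,52,51,50,51,52,51,52],12,3⟩) (.leaf ⟨50,[52,50,52,50,52,50,52],10,1⟩)) (.node (.leaf ⟨50,[49,50,52,50,49,50,51,52,51,52,51,50,49,50,52],14,1⟩) (.leaf ⟨52,[50,49,52,50,51,50,51,52,50,49,50,51,52,50,52,49,50,49,51,50,49,51],16,0⟩)))) (.node (.node (.node (.leaf ⟨51,[49,51,49],4,2⟩) (.leaf ⟨50,[49,51,50,49,51,50,51,49,50,51,49,50,51,49],7,0⟩))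 (.node (.leaf ⟨52,[51,52,51,52,51,50,51,52,51,52,51,52,50],12,6⟩) (.leaf ⟨50,[49,51,52,50,49,52,50,51,50,51,52,50,49,50,51,52,50,52,49,50,49,51],16,20⟩))) (.node (.node (.leaf ⟨50,[49,51,52,51,50,51,52,51,50,52,51,52,49,50,49],13,13⟩) (.leaf ⟨50,[52,51,50,52,50,51,50,52,50,51,50,49,50,52,50,49,50,52,50,49,52],15,4⟩)) (.leaf ⟨49,[50,49,50,49,50,49,50,49,50,49,50],2,3⟩)))) (.node (.node (.node (.node (.leaf ⟨49,[52,49,52],9,3⟩) (.leaf ⟨49,[51,50,49,51,50,51,49,50,51,49,50,51,49,50],7,1⟩)) (.node (.leaf ⟨52,[49,52,49],9,2⟩) (.leaf ⟨50,[49,50,51,52,50,52,49,50,49,51,50,49,51,52,50,49,52,50,51,50,51,52],16,9⟩))) (.node (.node (.leaf ⟨51,[50,52,51,52,49,50,49,50,49,51,52,51,50,51,52],13,5⟩) (.leaf ⟨50,[51,50,52,50,51,50,49,50,52,50,49,50,52,50,49,52,50,52,51,50,52],15,9⟩)) (.leaf ⟨50,[49,50,51,50,49,50,51,50,49,50,51],6,1⟩))) (.node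 (.node (.node (.leaf ⟨50,[51,50,51,50,51,50,51],5,7⟩) (.leaf ⟨50,[49,50,51,50,49,50,51,50,49,50,51],6,5⟩)) (.node (.leaf ⟨49,[50,52,50,49,50,52,50,49,50,51,52,51,52,51,50],14,14⟩) (.leaf ⟨49,[52,50,51,50,51,52,50,49,50,51,52,50,52,49,50,49,51,50,49,51,52,50],16,2⟩))) (.node (.node (.leaf ⟨51,[52,51,52,51,52,51,52,51,52,51,52],11,3⟩) (.leaf ⟨52,[50,49,50,51,52,50,52,49,50,49,51,50,49,51,52,50,49,52,50,51,50,51],16,8⟩)) (.leaf ⟨50,[52,50,52,50,52,50,52],10,7⟩)))))) (.node (.node (.node (.node (.node (.node (.leaf ⟨50,[50],1,1⟩) (.leaf ⟨51,[50,49,50,51,50,49,50,51,50,49,50],6,0⟩)) (.node (.leaf ⟨51,[52,51,52,50,52,51,52,51,52,51,50,51,52],12,1⟩) (.leaf ⟨51,[52,50,52,49,50,49,51,50,49,51,52,50,49,52,50,51,50,51,52,50,49,50],16,12⟩))) (.node (.node (.leaf ⟨51,[52,51,52,51,50,51,52,51,52,51,52,50,52],12,7⟩) (.leaf ⟨50,[51,50,51,50,51,50,51],5,1⟩))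 (.node (.leaf ⟨49,[50,52,50,49,50,51,52,51,52,51,50,49,50,52,50],14,2⟩) (.leaf ⟨50,[51,50,51,52,50,49,50,51,52,50,52,49,50,49,51,50,49,51,52,50,49,52],16,4⟩)))) (.node (.node (.node (.leaf ⟨51,[50,51,50,51,50,51,50],5,4⟩) (.leaf ⟨50,[51,49,50,51,49,50,49,51,50,49,51,50,51,49],7,9⟩)) (.node (.leaf ⟨50,[51,52,51,50,52,51,52,49,50,49,50,49,51,52,51],13,2⟩) (.leaf ⟨51,[50,49,51,52,50,49,52,50,51,50,51,52,50,49,50,51,52,50,52,49,50,49],16,19⟩))) (.node (.node (.leaf ⟨52,[51,50,52,51,52,49,50,49,50,49,51,52,51,50,51],13,4⟩) (.leaf ⟨50,[52,50,51,50,49,50,52,50,49,50,52,50,49,52,50,52,51,50,52,50,51],15,11⟩)) (.leaf ⟨51,[50,51,50,51,50,51,50],5,6⟩)))) (.node (.node (.node (.node (.leaf ⟨50,[51,50,51,50,51,50,51],5,5⟩) (.leaf ⟨49,[50,49,51,50,49,51,50,51,49,50,51,49,50,51],7,14⟩)) (.node (.leaf ⟨49,[50,49,50,49,51,52,51,50,51,52,51,50,52,51,52],13,10⟩)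 (.leaf ⟨50,[51,52,50,49,50,51,52,50,52,49,50,49,51,50,49,51,52,50,49,52,50,51],16,6⟩))) (.node (.node (.leaf ⟨52,[51,52,51,52,50,52,51,52,51,52,51,50,51],12,0⟩) (.leaf ⟨51,[52,49,50,49,50,49,51,52,51,50,51,52,51,50,52],13,8⟩)) (.leaf ⟨52,[50,52,50,52,50,52,50],10,4⟩))) (.node (.node (.node (.leaf ⟨50,[49,50,51,50,49,50,51,50,49,50,51],6,9⟩) (.leaf ⟨50,[51,50,49,50,51,50,49,50,51,50,49],6,11⟩)) (.node (.leaf ⟨49,[50,51,52,51,52,51,50,49,50,52,50,49,50,52,50],14,6⟩) (.leaf ⟨49,[51,52,50,49,52,50,51,50,51,52,50,49,50,51,52,50,52,49,50,49,51,50],16,21⟩))) (.node (.node (.leaf ⟨49,[50,51,50,49,50,51,50,49,50,51,50],6,6⟩) (.leaf ⟨52,[50,52,49,50,49,51,50,49,51,52,50,49,52,50,51,50,51,52,50,49,50,51],16,13⟩)) (.leaf ⟨52,[51,50,51,52,51,50,52,51,52,49,50,49,50,49,51],13,0⟩))))) (.node (.node (.node (.node (.node (.leaf ⟨49,[49],0,1⟩)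 (.leaf ⟨49,[50,49,50,49,50,49,50,49,50,49,50],2,9⟩)) (.node (.leaf ⟨50,[49,50,49,50,49,50,49,50,49,50,49],2,8⟩) (.leaf ⟨49,[50,51,52,50,52,49,50,49,51,50,49,51,52,50,49,52,50,51,50,51,52,50],16,10⟩))) (.node (.node (.leaf ⟨52,[51,50,51,52,51,52,51,52,50,52,51,52,51],12,10⟩) (.leaf ⟨52,[50,52,51,52,51,52,51,50,51,52,51,52,51],12,4⟩)) (.leaf ⟨51,[49,51,49],4,0⟩))) (.node (.node (.node (.leaf ⟨50,[52,50,52,50,52,50,52],10,5⟩) (.leaf ⟨50,[49,50,49,51,52,51,50,51,52,51,50,52,51,52,49],13,11⟩)) (.node (.leaf ⟨50,[52,51,52,49,50,49,50,49,51,52,51,50,51,52,51],13,6⟩) (.leaf ⟨52,[50,51,50,51,52,50,49,50,51,52,50,52,49,50,49,51,50,49,51,52,50,49],16,3⟩))) (.node (.node (.leaf ⟨49,[52,49,52],9,1⟩) (.leaf ⟨50,[52,50,51,50,52,50,51,50,49,50,52,50,49,50,52,50,49,52,50,52,51],15,7⟩)) (.leaf ⟨51,[50,49,50,51,50,49,50,51,50,49,50],6,4⟩))))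 (.node (.node (.node (.node (.leaf ⟨49,[50,49,50,49,50,49,50,49,50,49,50],2,7⟩) (.leaf ⟨52,[50,49,50,52,50,49,50,51,52,51,52,51,50,49,50],14,0⟩)) (.node (.leaf ⟨52,[50,52,50,52,50,52,50],10,2⟩) (.leaf ⟨50,[51,52,50,52,49,50,49,51,50,49,51,52,50,49,52,50,51,50,51,52,50,49],16,11⟩))) (.node (.node (.leaf ⟨49,[50,49,51,52,51,50,51,52,51,50,52,51,52,49,50],13,12⟩) (.leaf ⟨51,[50,52,50,51,50,49,50,52,50,49,50,52,50,49,52,50,52,51,50,52,50],15,10⟩)) (.leaf ⟨51,[52,51,50,51,52,51,50,52,51,52,49,50,49,50,49],13,15⟩))) (.node (.node (.node (.leaf ⟨51,[52,51,52,51,52,51,52,51,52,51,52],11,7⟩) (.leaf ⟨49,[50,49,50,49,50,49,50,49,50,49,50],2,5⟩)) (.node (.leaf ⟨50,[49,50,51,52,51,52,51,50,49,50,52,50,49,50,52],14,5⟩) (.leaf ⟨50,[52,49,50,49,51,50,49,51,52,50,49,52,50,51,50,51,52,50,49,50,51,52],16,14⟩))) (.node (.node (.leaf ⟨51,[52,51,50,51,52,51,52,51,52,50,52,51,52],12,9⟩)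 (.leaf ⟨50,[49,51,50,49,51,52,50,49,52,50,51,50,51,52,50,49,50,51,52,50,52,49],16,17⟩)) (.leaf ⟨49,[51,49,51],4,1⟩)))))))
noncomputable def tc3 : TCL := ⟨[49,50,51,52], [49,50,51], 432, 28, 0x3fff, 14, 0x7f,
  fun a x => look 0xfffffff (nth tc3T 0 a) x, fun x => look 0xfffffff tc3d x, tc3r⟩
noncomputable def tc4T : List ℕ := [0,0,0,0,0,0,0,0,0,0,0,0,0,0,0,0,0,0,0,0,0,0,0,0,0,0,0,0,0,0,0,0,0,0,0,0,0,0,0,0,0,0,0,0,0,0,0,0,0,tc4t49,tc4t50,tc4t51]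
noncomputable def tc4r : Tr Rule := (.node (.node (.node (.node (.leaf ⟨51,[51],3,1⟩) (.leaf ⟨49,[50,51,49,50,51,49,50,49,51,50,49,51,50,51],7,8⟩)) (.leaf ⟨49,[50,49,50,49,50,49,50,49,50,49,50],2,7⟩)) (.node (.leaf ⟨49,[49],0,1⟩) (.leaf ⟨51,[50,49,50,51,50,49,50,51,50,49,50],6,8⟩))) (.node (.node (.node (.leaf ⟨50,[50],1,1⟩) (.leaf ⟨51,[49,50,51,49,50,49,51,50,49,51,50,51,49,50],7,10⟩)) (.leaf ⟨50,[51,50,51,50,51,50,51],5,5⟩)) (.node (.leaf ⟨49,[51,49,51],4,3⟩) (.leaf ⟨51,[49,51,49],4,2⟩))))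
noncomputable def tc4 : TCL := ⟨[49,50,51], [49,50], 10, 16, 0xff, 8, 0xf,
  fun a x => look 0xffff (nth tc4T 0 a) x, fun x => look 0xffff tc4d x, tc4r⟩
noncomputable def tc5T : List ℕ := [0,0,0,0,0,0,0,0,0,0,0,0,0,0,0,0,0,0,0,0,0,0,0,0,0,0,0,0,0,0,0,0,0,0,0,0,0,0,0,0,0,0,0,0,0,0,0,0,0,tc5t49,tc5t50]
noncomputable def tc5r : Tr Rule := (.node (.node (.leaf ⟨50,[50],1,1⟩) (.leaf ⟨49,[50,49,50,49,50,49,50,49,50,49,50],2,7⟩)) (.leaf ⟨49,[49],0,1⟩))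
noncomputable def tc5 : TCL := ⟨[49,50], [49], 6, 16, 0x7f, 7, 0x7,
  fun a x => look 0xffff (nth tc5T 0 a) x, fun x => look 0xffff tc5d x, tc5r⟩
noncomputable def tc6T : List ℕ := [0,0,0,0,0,0,0,0,0,0,0,0,0,0,0,0,0,0,0,0,0,0,0,0,0,0,0,0,0,0,0,0,0,0,0,0,0,0,0,0,0,0,0,0,0,0,0,0,0,tc6t49]
noncomputable def tc6r : Tr Rule := (.leaf ⟨49,[49],0,1⟩)
noncomputable def tc6 : TCL := ⟨[49], [], 2, 16, 0x3f, 6, 0x3,
  fun a x => look 0xffff (nth tc6T 0 a) x, fun x => look 0xffff tc6d x, tc6r⟩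
noncomputable def tc : List TCL := [tc0, tc1, tc2, tc3, tc4, tc5, tc6]
noncomputable def inW : List (List ℕ) := [[51,52,53,52,49,50,52,53,52,50,49,50,49,50,51],
  [49,54,52,53,52,54,49,55,52,54,53,54,50,51,52,51,49,50,52,53,52,49,50,51,52,51,49,50,51,50,49,50,49,50],
  [54,50,52,50,53,55,53,52,54,52,50,52,50],
  [51,52,54,50,53,51,49,55,53,49,54,51,50,52,51],
  [53,51,50,51,52,54,49,55,49,54,52,50,53,51,50,51,50],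
  [51,52,50,53,54,53,50,49,55,49,50,53,54,53,50,52,51],
  [51,50,53,52,49,54,52,53,49,50,51],
  [49,54,53,50,49,54,50,52,53,49,50,49,50,53,50,51,52,50,51,49,50,52,50,51,52,50,51,49,50,51,50,49,50,49,50,49],
  [53,49,50,49,50,53,49]]
noncomputable def tcS : List ℕ := [49,50,51,52,53,54,55]

end Cfsg.Agent.CG.Fi22
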