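import Cfsg.Agent.Lib.Grp.Fi22.ODefs

set_option autoImplicit false
set_option maxRecDepth 100000
set_option Elab.async false

namespace Cfsg.Agent.CG.Fi22

theorem Oc171 : cc0.chk (appT tabs t78 0xffff) 1 2815 = true := by decide +kernel
theorem Oc172 : cc1.chk (appT tabs t78 0xffff) 1 566 = true := by decide +kernel
theorem Oc173 : cc2.chk (appT tabs t78 0xffff) 1 319 = true := by decide +kernel
theorem Oc174 : cc3.chk (appT tabs t78 0xffff) 1 17 = true := by decide +kernel
theorem Oc175 : cc4.chk (appT tabs t78 0xffff) 1 1 = true := by decide +kernel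
theorem Oc176 : okcb 3510 16 (bases cc) = true := by decide +kernel
theorem Oc177 : headAll (appT tabs t78 0xffff) cc [] = true := by decide +kernel
theorem Oc178 : trChk (appT tabs t78 0xffff) mc0 [mc1, mc2, mc3, mc4, mc5, mc6] bs (diagQ pQ) (diagQ pR) pF 0 2491 = true := by decide +kernel
theorem Oc179 : trChk (appT tabs t78 0xffff) mc0 [mc1, mc2, mc3, mc4, mc5, mc6] bs (diagQ pQ) (diagQ pR) pF 2491 1019 = true := by decide +kernel
theorem Oc180 : classChk (appT tabs t78 0xffff) bs 14 2 58 [14,13,13,17,17,27,25,25,27,24,32,29,33,30,28,37,38,34,38,42,41,47,47] pS pF pU = true := by decide +kernel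
theorem Oc181 : powChk (appT tabs t78 0xffff) bs 12 13 aK nK = true := by decide +kernel
theorem Oc182 : en.chk (appT tabs t78 0xffff) tst 0 1864 0 454246186568933416426112 = true := by decide +kernel
theorem Oc183 : en.chk (appT tabs t78 0xffff) tst 1864 1646 454246186568933416426112 1035686095982119265284945 = true := by decide +kernel
theorem Oc184 : commAll (appT tabs t78 0xffff) bs 14 cc = true := by decide +kernel
theorem Oc185 : relChk (appT tabs t78 0xffff) bs 12 14 rT = true := by decide +kernel
theorem Oc186 : eqW (appT tabs t78 0xffff) bs (substW img [49,49]) [] = true := by decide +kernel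
theorem Oc187 : eqW (appT tabs t78 0xffff) bs (substW img [50,50]) [] = true := by decide +kernel
theorem Oc188 : eqW (appT tabs t78 0xffff) bs (substW img [50,49,50,49,50,49,50,49,50,49,50,49]) [] = true := by decide +kernel
theorem Oc189 : eqW (appT tabs t78 0xffff) bs (substW img [51,51]) [] = true := by decide +kernel
theorem Oc190 : eqW (appT tabs t78 0xffff) bs (substW img [51,49,51,49]) [] = true := by decide +kernel
theorem Oc191 : eqW (appT tabs t78 0xffff) bs (substW img [51,50,51,50,51,50,51,50]) [] = true := by decide +kernel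
theorem Oc192 : eqW (appT tabs t78 0xffff) bs (substW img [51,50,49,50,51,50,49,50,51,50,49,50]) [] = true := by decide +kernel
theorem Oc193 : eqW (appT tabs t78 0xffff) bs (substW img [50,49,51,50,49,51,50,51,49,50,51,49,50,51,49]) [] = true := by decide +kernel
theorem Oc194 : eqW (appT tabs t78 0xffff) bs (substW img [52,52]) [] = true := by decide +kernel
theorem Oc195 : eqW (appT tabs t78 0xffff) bs (substW img [52,49,52,49]) [] = true := by decide +kernel
theorem Oc196 : eqW (appT tabs t78 0xffff) bs (substW img [52,50,52,50,52,50,52,50]) [] = true := by decide +kernel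
theorem Oc197 : eqW (appT tabs t78 0xffff) bs (substW img [52,51,52,51,52,51,52,51,52,51,52,51]) [] = true := by decide +kernel
theorem Oc198 : eqW (appT tabs t78 0xffff) bs (substW img [52,51,52,51,52,50,52,51,52,51,52,51,50,51]) [] = true := by decide +kernel
theorem Oc199 : eqW (appT tabs t78 0xffff) bs (substW img [52,51,50,51,52,51,50,52,51,52,49,50,49,50,49,51]) [] = true := by decide +kernel
theorem Oc200 : eqW (appT tabs t78 0xffff) bs (substW img [52,50,49,50,52,50,49,50,51,52,51,52,51,50,49,50]) [] = true := by decide +kernel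
theorem Oc201 : eqW (appT tabs t78 0xffff) bs (substW img [52,50,49,52,50,52,51,50,52,50,51,50,52,50,51,50,49,50,52,50,49,50]) [] = true := by decide +kernel
theorem Oc202 : eqW (appT tabs t78 0xffff) bs (substW img [52,50,49,52,50,51,50,51,52,50,49,50,51,52,50,52,49,50,49,51,50,49,51]) [] = true := by decide +kernel
theorem Oc203 : eqW (appT tabs t78 0xffff) bs (substW img [53,53]) [] = true := by decide +kernel
theorem Oc204 : eqW (appT tabs t78 0xffff) bs (substW img [53,49,53,49]) [] = true := by decide +kernel
theorem Oc205 : eqW (appT tabs t78 0xffff) bs (substW img [53,51,53,51]) [] = true := by decide +kernel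
theorem Oc206 : eqW (appT tabs t78 0xffff) bs (substW img [53,50,51,50,53,50,51,50]) [] = true := by decide +kernel
theorem Oc207 : eqW (appT tabs t78 0xffff) bs (substW img [53,50,53,50,53,50,53,50]) [] = true := by decide +kernel
theorem Oc208 : eqW (appT tabs t78 0xffff) bs (substW img [53,52,53,52,53,52,53,52]) [] = true := by decide +kernel
theorem Oc209 : eqW (appT tabs t78 0xffff) bs (substW img [53,52,51,52,51,52,53,52,51,52,51,52]) [] = true := by decide +kernel
theorem Oc210 : eqW (appT tabs t78 0xffff) bs (substW img [53,52,53,50,52,50,53,52,53,50,52,50]) [] = true := by decide +kernel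
theorem Oc211 : eqW (appT tabs t78 0xffff) bs (substW img [53,50,52,53,52,53,50,53,50,51,52,53,52,51,50]) [] = true := by decide +kernel
theorem Oc212 : eqW (appT tabs t78 0xffff) bs (substW img [53,52,50,49,50,49,50,52,53,52,50,49,50,49,50,52]) [] = true := by decide +kernel
theorem Oc213 : eqW (appT tabs t78 0xffff) bs (substW img [53,50,49,53,50,49,50,53,49,50,53,49,50,49,50,49]) [] = true := by decide +kernel
theorem Oc214 : eqW (appT tabs t78 0xffff) bs (substW img [53,50,52,50,53,50,49,50,53,50,52,50,53,50,49,50]) [] = true := by decide +kernel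
theorem Oc215 : eqW (appT tabs t78 0xffff) bs (substW img [53,50,49,52,50,51,50,52,49,50,53,50,49,52,50,51,50,49,52,50]) [] = true := by decide +kernel
theorem Oc216 : eqW (appT tabs t78 0xffff) bs (substW img [53,50,49,52,51,53,50,52,53,50,52,53,50,53,52,50,49,51,52,51,50]) [] = true := by decide +kernel
theorem Oc217 : eqW (appT tabs t78 0xffff) bs (substW img [53,52,53,50,53,52,49,50,52,53,52,49,50,53,50,49,50,49,52,50,52]) [] = true := by decide +kernel
theorem Oc218 : eqW (appT tabs t78 0xffff) bs (substW img [54,54]) [] = true := by decide +kernel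
theorem Oc219 : eqW (appT tabs t78 0xffff) bs (substW img [54,50,54,50]) [] = true := by decide +kernel
theorem Oc220 : eqW (appT tabs t78 0xffff) bs (substW img [54,51,54,51]) [] = true := by decide +kernel
theorem Oc221 : eqW (appT tabs t78 0xffff) bs (substW img [54,49,54,49,54,49]) [] = true := by decide +kernel
theorem Oc222 : eqW (appT tabs t78 0xffff) bs (substW img [54,52,50,52,54,52,50,52]) [] = true := by decide +kernel
theorem Oc223 : eqW (appT tabs t78 0xffff) bs (substW img [54,52,51,52,54,52,51,52]) [] = true := by decide +kernel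
theorem Oc224 : eqW (appT tabs t78 0xffff) bs (substW img [54,53,54,53,54,53,54,53]) [] = true := by decide +kernel
theorem Oc225 : eqW (appT tabs t78 0xffff) bs (substW img [51,52,51,54,52,54,51,52,54]) [] = true := by decide +kernel
theorem Oc226 : eqW (appT tabs t78 0xffff) bs (substW img [54,53,52,53,54,51,52,54,53,54,53,52,51]) [] = true := by decide +kernel
theorem Oc227 : eqW (appT tabs t78 0xffff) bs (substW img [54,53,54,52,54,52,53,52,54,51,53,52,51,53,52]) [] = true := by decide +kernel
theorem Oc228 : eqW (appT tabs t78 0xffff) bs (substW img [54,49,53,52,50,52,53,49,54,49,53,52,50,49,52,53]) [] = true := by decide +kernel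
theorem Oc229 : eqW (appT tabs t78 0xffff) bs (substW img [54,49,53,52,54,53,50,53,54,52,53,49,54,50,49,51,50,51,52,51,50,49,51,50]) [] = true := by decide +kernel
theorem Oc230 : eqW (appT tabs t78 0xffff) bs (substW img [54,49,50,53,54,49,51,50,51,52,53,54,49,51,50,49,51,50,52,51,50,49,51,52,53,50,52,50,51]) [] = true := by decide +kernel
theorem Oc231 : eqW (appT tabs t78 0xffff) bs (substW img [55,55]) [] = true := by decide +kernel
theorem Oc232 : eqW (appT tabs t78 0xffff) bs (substW img [55,50,55,50]) [] = true := by decide +kernel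
theorem Oc233 : eqW (appT tabs t78 0xffff) bs (substW img [55,52,55,52]) [] = true := by decide +kernel
theorem Oc234 : eqW (appT tabs t78 0xffff) bs (substW img [55,54,55,54]) [] = true := by decide +kernel
theorem Oc235 : eqW (appT tabs t78 0xffff) bs (substW img [55,49,55,49,55,49]) [] = true := by decide +kernel
theorem Oc236 : eqW (appT tabs t78 0xffff) bs (substW img [55,51,55,51,55,51]) [] = true := by decide +kernel
theorem Oc237 : eqW (appT tabs t78 0xffff) bs (substW img [55,49,50,49,50,49,55,49,50,49,50,49]) [] = true := by decide +kernel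
theorem Oc238 : eqW (appT tabs t78 0xffff) bs (substW img [55,53,50,49,50,53,55,53,50,49,50,53]) [] = true := by decide +kernel
theorem Oc239 : eqW (appT tabs t78 0xffff) bs (substW img [55,53,54,53,55,53,54,53,55,53,54,53]) [] = true := by decide +kernel
theorem Oc240 : eqW (appT tabs t78 0xffff) bs (substW img [55,51,52,50,49,50,52,51,55,51,52,50,49,50,52,51]) [] = true := by decide +kernel
theorem Oc241 : eqW (appT tabs t78 0xffff) bs (substW img [53,52,50,55,53,50,52,51,52,50,53,55,50,52,53,55]) [] = true := by decide +kernel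
theorem Oc242 : eqW (appT tabs t78 0xffff) bs (substW img [55,53,52,50,53,49,52,50,53,51,55,51,53,50,49,52,53,50,52,53]) [] = true := by decide +kernel
theorem Oc243 : eqW (appT tabs t78 0xffff) bs (substW img [55,53,50,53,55,53,55,53,50,53,55,50,49,51,50,49,51,52,51,50,51,53,52,51,50,49,51,52]) [] = true := by decide +kernel
theorem Oc244 : eqW (appT tabs t78 0xffff) bs (substW img [55,51,50,51,55,53,55,51,50,51,55,50,49,50,49,51,50,49,50,49,52,50,51,50,49,51,50,49,53]) [] = true := by decide +kernel
theorem Oc245 : trChk (appT tabs t78 0xffff) mc0 [mc1, mc2, mc3, mc4, mc5, mc6] bs (pairQ 12 14 75 77 nQ) (pairQ 12 14 75 77 [[0], [1]]) [] 0 1245 = true := by decide +kernel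
theorem Oc246 : trChk (appT tabs t78 0xffff) mc0 [mc1, mc2, mc3, mc4, mc5, mc6] bs (pairQ 12 14 75 77 nQ) (pairQ 12 14 75 77 [[0], [1]]) [] 1245 1245 = true := by decide +kernel
theorem Oc247 : trChk (appT tabs t78 0xffff) mc0 [mc1, mc2, mc3, mc4, mc5, mc6] bs (pairQ 12 14 75 77 nQ) (pairQ 12 14 75 77 [[0], [1]]) [] 2490 1020 = true := by decide +kernel

end Cfsg.Agent.CG.Fi22
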