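import Cfsg.Agent.Lib.Grp.Fi22.OD1
import Cfsg.Agent.Lib.Grp.Fi22.Defs

set_option autoImplicit false
set_option maxRecDepth 100000
set_option Elab.async false

namespace Cfsg.Agent.CG.Fi22

noncomputable def cc0 : Lvl := ⟨4976, [59,60,61,62], 2816,
  fun i => look 0xffff cc0c (Nat.mul 16 i), fun i => look 0xfff cc0p (Nat.mul 12 i),
  fun i => look 255 cc0l (Nat.mul 8 i), fun i => look 255 cc0i (Nat.mul 8 i), fun x => look 0xffff cc0q x, 9⟩
noncomputable def cc1 : Lvl := ⟨40208, [63,64,65,66], 567,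
  fun i => look 0xffff cc1c (Nat.mul 16 i), fun i => look 0xfff cc1p (Nat.mul 12 i),
  fun i => look 255 cc1l (Nat.mul 8 i), fun i => look 255 cc1i (Nat.mul 8 i), fun x => look 0xffff cc1q x, 8⟩
noncomputable def cc2 : Lvl := ⟨26400, [67,68,69,70], 320,
  fun i => look 0xffff cc2c (Nat.mul 16 i), fun i => look 0xfff cc2p (Nat.mul 12 i),
  fun i => look 255 cc2l (Nat.mul 8 i), fun i => look 255 cc2i (Nat.mul 8 i), fun x => look 0xffff cc2q x, 7⟩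
noncomputable def cc3 : Lvl := ⟨14576, [71,72,73], 18,
  fun i => look 0xffff cc3c (Nat.mul 16 i), fun i => look 0xff cc3p (Nat.mul 8 i),
  fun i => look 255 cc3l (Nat.mul 8 i), fun i => look 255 cc3i (Nat.mul 8 i), fun x => look 0xffff cc3q x, 4⟩
noncomputable def cc4 : Lvl := ⟨34320, [74], 2,
  fun i => look 0xffff cc4c (Nat.mul 16 i), fun i => look 0xf cc4p (Nat.mul 4 i),
  fun i => look 255 cc4l (Nat.mul 8 i), fun i => look 255 cc4i (Nat.mul 8 i), fun x => look 0xffff cc4q x, 1⟩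
noncomputable def cc : List Lvl := [cc0, cc1, cc2, cc3, cc4]
noncomputable def pS : List ℕ := [56]
noncomputable def pQ : List (List ℕ) := [[],
  [56,56,56],
  [56,56,56,56,56,56],
  [56,56,56,56,56,56,56],
  [56,56,56,56,56,56,56,56],
  [56],
  [56,56]]
noncomputable def pR : List (List ℕ) := [[56]]
noncomputable def pF : List (List ℕ) := [[],
  [18,15,18,22,25,25,25,23,27,23,31,28,33,35,35,39,35,44,40,46],
  [21,12,16,18,23,25,26,25,27,33,31,31,28,28,35,39,36,35,43,46,46,48],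
  [18,16,14,21,27,25,23,27,25,27,31,32,29,30,33,36,35,39,36,34,46,46,46],
  [18,18,18,22,24,23,25,25,32,31,28,33,28,38,37,38,35,41,45,46],
  [13,22,14,18,25,25,26,24,23,31,33,28,32,28,34,36,34,34,42,41,48],
  [22,17,22,22,12,24,26,23,32,31,32,29,31,38,38,34,34,42,40,47],
  [12,17,15,21,23,26,25,25,25,31,29,29,38,34,37,37,44,40,46],
  [13,18,22,12,22,24,26,25,25,31,31,29,33,37,38,36,34,42,41,48],
  [12,17,16,22,12,23,26,24,24,24,24,29,34,39,36,40,46,46,48],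
  [21,21,18,21,12,24,23,24,26,23,27,24,32,32,28,32,36,36,34,34,41,46,46,46],
  [18,16,12,12,27,24,26,23,24,23,32,29,32,28,34,39,34,36,41,45,46,48],
  [17,22,18,18,14,13,26,24,23,25,23,29,30,28,37,34,38,45,47],
  [17,17,17,12,26,27,24,26,25,25,32,29,33,30,28,38,34,37,42,41,47,47],
  [12,12,17,25,23,25,26,23,32,31,31,32,28,36,39,39,34,40,46,46,46,48],
  [21,17,15,18,13,24,27,26,24,23,28,32,28,38,34,34,34,42,40,47,48],
  [15,21,18,22,12,26,25,23,27,29,32,30,29,34,37,34,39,35,41,45,47,47],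
  [12,14,21,17,24,24,27,23,24,32,29,33,30,28,39,37,37,40,46],
  [21,13,14,21,13,26,23,25,26,24,23,24,30,32,29,32,34,34,36,38,34,42,40,46],
  [12,17,17,14,24,24,26,25,23,24,33,31,31,39,39,36,35,46,46,48],
  [16,18,15,18,23,24,24,27,23,30,32,28,36,38,37,47],
  [21,13,21,13,13,23,26,24,24,24,24,31,33,31,31,37,34,36,44,41,47,47]]
noncomputable def pU : List (List ℕ) := [[22,22,23,26,25,23,25,23,33,31,38,34,34,42,40]]
noncomputable def aK : List ℕ := [12,75]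
noncomputable def nK : List (List ℕ × ℕ) := [([],0),
  ([],12),
  ([],75),
  ([21,17,21,17,25,26,25,25,30,28,32,28,32,39,36,47,47,48],12),
  ([22,15,13,15,25,23,27,26,24,24,31,33,38,35,35,35,45],12),
  ([18,12,18,15,24,27,24,26,25,25,30,28,32,28,32,35,39,34,44,41,47,47,48],75),
  ([21,17,21,17,25,26,25,25,30,28,32,28,32,39,36,47,47,48],75),
  ([17,13,13,13,16,12,27,26,24,24,24,24,32,32,30,28,31,34,48],75),
  ([22,15,13,15,25,23,27,26,24,24,31,33,38,35,35,35,45],75),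
  ([18,12,18,15,24,27,24,26,25,25,30,28,32,28,32,35,39,34,44,41,47,47,48],12),
  ([17,13,13,13,16,12,27,26,24,24,24,24,32,32,30,28,31,34,48],12),
  ([17,17,21,21,13,26,25,25,27,23,28,33,30,29,38,37,39,47],75),
  ([17,17,21,21,13,26,25,25,27,23,28,33,30,29,38,37,39,47],12)]
noncomputable def rT : List (List ℕ × ℕ) := [([0,1,0,1,0,1,0,1,0,1,0,1,0,1,0,1,0,1,0,1,0,1],33920),
  ([0,0,1,0,1,0,0,1,0,1,0,0,1,0,1,0,0,1,0,1,0,0,1,0,1,0,0,1,0,1,0,0,1,0,1,0,0,1,0,1,0,0,1,0,1],26928),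
  ([0,0,1,0,1,0,0,1,0,1,0,0,1,0,1,0,0,1,0,1,0,0,1,0,1,0,0,1,0,1,0,0,1,0,1,0,0,1,0,1,0,0,1,0,1],45504),
  ([0,0,0,1,0,0,1,0,1,0,0,0,1,0,0,1,0,1,0,0,0,1,0,0,1,0,1,0,0,0,1,0,0,1,0,1,0,0,0,1,0,0,1,0,1,0,0,0,1,0,0,1,0,1,0,0,0,1,0,0,1,0,1,0,0,0,1,0,0,1,0,1,0,0,0,1,0,0,1,0,1,0,0,0,1,0,0,1,0,1,0,0,0,1,0,0,1,0,1],8320)]
noncomputable def uu : List (List ℕ) := [[],
  [12],
  [12,12],
  [12,12,12],
  [12,12,12,12],
  [12,12,12,12,12],
  [13],
  [13,13],
  [13,13,13],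
  [14,22,17,21,13,25,27,25,23,24,29,32,30,29,39,34,38,37,41,47,47,48],
  [16,14,18,26,24,26,23,33,28,28,33,38,35,37,38,40,46,46,46],
  [16,18,21,17,23,27,23,26,24,23,31,28,31,31,35,36,36,45,47,47],
  [18,22,12,12,12,26,24,23,24,24,30,33,30,28,38,36,36,39,34,43,46]]
noncomputable def wT : Tr ℕ := (.node (.node (.leaf w0) (.leaf w2)) (.node (.leaf w1) (.leaf w3)))
noncomputable def en : Enum := ⟨inv, 8, 255, 3, fun i => force (Nat.shiftRight i 10) fun c => look 0xffffff (wT.get c) (Nat.mul 24 (Nat.land i 1023)), 14, [48144,12736,37120,22128,24624], 65536⟩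
noncomputable def tst : (ℕ → ℕ) → Bool := outTest (appT tabs t78 0xffff) bs aK rT [(12, 14), (75, 77)] uu
noncomputable def imgL : List (List ℕ) := [[],
  [],
  [],
  [],
  [],
  [],
  [],
  [],
  [],
  [],
  [],
  [],
  [],
  [],
  [],
  [],
  [],
  [],
  [],
  [],
  [],
  [],
  [],
  [],
  [],
  [],
  [],
  [],
  [],
  [],
  [],
  [],
  [],
  [],
  [],
  [],
  [],
  [],
  [],
  [],
  [],
  [],
  [],
  [],
  [],
  [],
  [],
  [],
  [],
  [15,17,17,15,23,24,23,26,24,23,31,32,32,28,37,39,34,36,41,45,46,46],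
  [21,17,15,12,16,27,26,25,25,23,29,33,30,28,39,39,35,37,41,45,46,46,48],
  [24,27,26,24,23,29,33,30,33,29,37,38,34,34,42,41,46],
  [17,17,12,22,23,25,27,25,27,31,32,28,32,28,37,39,36,34,43,46,48],
  [22,17,15,18,15,24,26,25,23,25,23,28,33,29,29,37,37,39,37,42,41,47],
  [12,15,12,16,26,25,25,23,28,32,30,33,28,35,37,38,34,34,40,47,47],
  [15,15,23]]
noncomputable def img (a : ℕ) : List ℕ := nth imgL [] a
noncomputable def nQ : List (List ℕ) := [[],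
  [0,0,0,1,0,1,0,0,0,0,1,0,0,0,0],
  [0,1,0,1,0,1,0,1],
  [0,0,0,0,0,0,0,1,0,0,0,1,0,0,0,0,0,0,0,1],
  [0,0,0,1,0,1,0,0,0,0,1,0,0,0,0,0,1],
  [0,1,0,1,0,0,1,0,1,0,1],
  [0,0,0,0,1,0,1,0,0,0,0,0,0,1,0,1,0,1]]

end Cfsg.Agent.CG.Fi22
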